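import Mathlib

/-!
# The commutator array of a chain `v (i+1) = [v i, a]`

`γ i j` stands for the commutator of the `i`-th and the `j`-th member of the chain, `u` for the
action of `a` minus one on the commutator subgroup.
-/

set_option autoImplicit false

namespace CfsgLib.LocalEven.JNormComplement

variable {M : Type*} [AddCommGroup M] {u : M →+ M} {γ : ℕ → ℕ → M} {l ν : ℕ}

/-- Entries with `i + j ≥ l + m` lie in the image of the `m`-th power of `u`. -/
theorem exists_iterate_eq (hrel : ∀ i j, u (γ i j) = γ (i + 1) j + γ i (j + 1) + γ (i + 1) (j + 1))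
    (hi : ∀ i j, l < i → γ i j = 0) :
    ∀ m i j, l + m ≤ i + j → ∃ x, (⇑u)^[m] x = γ i j := by
  intro m
  induction m with
  | zero => exact fun i j _ => ⟨γ i j, rfl⟩
  | succ m ih =>
    have key : ∀ d i, l + 1 ≤ i + d → ∀ j, l + (m + 1) ≤ i + j →
        ∃ x, (⇑u)^[m + 1] x = γ i j := by
      intro d
      induction d with
      | zero =>
        intro i hd j _
        exact ⟨0, by rw [iterate_map_zero, hi i j (by omega)]⟩
      | succ d ihd =>
        intro i _ j hij
        rcases j with _ | j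
        · exact ⟨0, by rw [iterate_map_zero, hi i 0 (by omega)]⟩
        obtain ⟨x, hx⟩ := ih i j (by omega)
        obtain ⟨y, hy⟩ := ihd (i + 1) (by omega) j (by omega)
        obtain ⟨z, hz⟩ := ihd (i + 1) (by omega) (j + 1) (by omega)
        refine ⟨x - y - z, ?_⟩
        rw [iterate_map_sub, iterate_map_sub, hy, hz, Function.iterate_succ_apply', hx, hrel]
        abel
    exact fun i j hij => key (l + 1) i (by omega) j hij

theorem eq_zero_of_le_add (hrel : ∀ i j, u (γ i j) = γ (i + 1) j + γ i (j + 1) + γ (i + 1) (j + 1))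
    (hi : ∀ i j, l < i → γ i j = 0) (hnil : ∀ x, (⇑u)^[ν + 1] x = 0) {i j : ℕ}
    (h : l + ν + 1 ≤ i + j) : γ i j = 0 := by
  obtain ⟨x, hx⟩ := exists_iterate_eq hrel hi (ν + 1) i j (by omega)
  rw [← hx, hnil]

/-- The case `l = 4`, `ν = 1`, not covered by the general bound. -/
theorem eq_zero_four (hrel : ∀ i j, u (γ i j) = γ (i + 1) j + γ i (j + 1) + γ (i + 1) (j + 1))
    (hi : ∀ i j, 4 < i → γ i j = 0) (hj : ∀ i j, 4 < j → γ i j = 0) (hdiag : ∀ i, γ i i = 0)
    (hnil : ∀ x, (⇑u)^[1 + 1] x = 0) : γ 2 3 = 0 := by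
  have h2 : ∀ x, u (u x) = 0 := fun x => hnil x
  have hu : ∀ i j, 5 ≤ i + j → u (γ i j) = 0 := fun i j h => by
    obtain ⟨x, hx⟩ := exists_iterate_eq hrel hi 1 i j (by omega)
    rw [← hx]
    exact h2 x
  have h6 : ∀ i j, 6 ≤ i + j → γ i j = 0 := fun i j h => eq_zero_of_le_add hrel hi hnil (by omega)
  have a12 := hrel 1 2
  have a13 := hrel 1 3
  have a03 := hrel 0 3
  have a04 := hrel 0 4
  simp only [Nat.reduceAdd] at a12 a13 a03 a04
  rw [hdiag 2, zero_add] at a12
  have c13 : u (γ 1 3) = 0 := by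
    have := congrArg u a12
    rw [map_add, h2, hu 2 3 le_rfl, add_zero] at this
    exact this.symm
  have s : γ 2 3 + γ 1 4 = 0 := by
    rw [c13, h6 2 4 le_rfl, add_zero] at a13
    exact a13.symm
  have b04 : u (γ 0 4) = γ 1 4 := by
    rw [a04, hj 0 5 (by omega), hj 1 5 (by omega), add_zero, add_zero]
  have b : u (γ 0 4) = 0 := by
    have := congrArg u a03
    rw [map_add, map_add, h2, c13, hu 1 4 le_rfl, zero_add, add_zero] at this
    exact this.symm
  rw [b] at b04
  rwa [← b04, add_zero] at s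

/-- All entries `γ i j` with `J ≤ i < j` vanish, for some `J` well below `l`. -/
theorem exists_threshold (hrel : ∀ i j, u (γ i j) = γ (i + 1) j + γ i (j + 1) + γ (i + 1) (j + 1))
    (hi : ∀ i j, l < i → γ i j = 0) (hj : ∀ i j, l < j → γ i j = 0) (hdiag : ∀ i, γ i i = 0)
    (hnil : ∀ x, (⇑u)^[ν + 1] x = 0) (hν : 1 ≤ ν) (hl : 3 * ν + 2 ≤ l ∨ l = 4 ∧ ν = 1) :
    ∃ J, 1 ≤ J ∧ ν + 1 < l + 1 - J ∧ ∀ i j, J ≤ i → i < j → γ i j = 0 := by
  rcases hl with hl | ⟨rfl, rfl⟩
  · refine ⟨(l + ν + 1) / 2, by omega, by omega, fun i j h1 h2 => ?_⟩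
    exact eq_zero_of_le_add hrel hi hnil (by omega)
  · refine ⟨2, by omega, by omega, fun i j h1 h2 => ?_⟩
    by_cases h : 6 ≤ i + j
    · exact eq_zero_of_le_add hrel hi hnil (by omega)
    obtain ⟨rfl, rfl⟩ : i = 2 ∧ j = 3 := by omega
    exact eq_zero_four hrel hi hj hdiag hnil

end CfsgLib.LocalEven.JNormComplement
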