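import Mathlib

/-!
# Points fixed by one line in a rank two action on an abelian group of coprime exponent
-/

set_option autoImplicit false
set_option linter.style.haveILetI false
set_option linter.unusedSectionVars false

namespace CfsgLib.LocalEven.JNormComplement

/-- If `x`, `y` commute, their `p`-th powers act trivially on the abelian group `V` and every point
fixed by one of `x`, `y * x ^ j` lies in the subgroup `W` of points fixed by `x` and `y`, then
`r ^ p ∈ W` for all `r`. -/
theorem pow_mem_of_lines {T V : Type*} [Group T] [CommGroup V] {p : ℕ} [hp : Fact p.Prime]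
    (φ : T →* MulAut V) {x y : T} (hxy : Commute x y)
    (hxp : ∀ s : V, φ (x ^ p) s = s) (hyp : ∀ s : V, φ (y ^ p) s = s) (W : Subgroup V)
    (hWy : ∀ s ∈ W, φ y s = s)
    (hline : ∀ s : V, (φ x s = s ∨ ∃ j : ℕ, φ (y * x ^ j) s = s) → s ∈ W) (r : V) :
    r ^ p ∈ W := by
  classical
  have hpm : ∀ z : T, (∀ s, φ (z ^ p) s = s) → ∀ n, ∀ s, φ (z ^ n) s = φ (z ^ (n % p)) s := by
    intro z hz n s
    conv_lhs => rw [← Nat.mod_add_div n p, pow_add, map_mul, MulAut.mul_apply]
    congr 1
    generalize n / p = k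
    induction k with
    | zero => simp
    | succ k ih => rw [Nat.mul_succ, pow_add, map_mul, MulAut.mul_apply, hz, ih]
  let f : ZMod p → V := fun m => φ (x ^ m.val) r
  have hf : ∀ n : ℕ, φ (x ^ n) r = f n := fun n => by
    rw [hpm x hxp n r]
    change _ = φ (x ^ ((n : ZMod p)).val) r
    rw [ZMod.val_natCast]
  have hshift : ∀ z : T, (∀ s, φ (z ^ p) s = s) → ∀ s : V,
      φ z (∏ i ∈ Finset.range p, φ (z ^ i) s) = ∏ i ∈ Finset.range p, φ (z ^ i) s := by
    intro z hz s
    rw [map_prod]
    have e : ∀ i, φ z (φ (z ^ i) s) = φ (z ^ (i + 1)) s := fun i => by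
      rw [pow_succ', map_mul, MulAut.mul_apply]
    simp only [e]
    have h1 := Finset.prod_range_succ' (fun i => φ (z ^ i) s) p
    have h2 := Finset.prod_range_succ (fun i => φ (z ^ i) s) p
    rw [h2, hz] at h1
    simp only [pow_zero, map_one, MulAut.one_apply] at h1
    exact (mul_right_cancel h1).symm
  set Nx := ∏ j ∈ Finset.range p, φ (x ^ j) r with hNx
  have hNxW : Nx ∈ W := hline _ (Or.inl (hshift x hxp r))
  have hNxf : ∏ m : ZMod p, f m = Nx := by
    rw [hNx]
    refine (Finset.prod_nbij (fun j : ℕ => (j : ZMod p)) (fun j _ => Finset.mem_univ _) ?_ ?_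
      fun j _ => hf j).symm
    · intro a ha b hb h
      simp only [Finset.coe_range, Set.mem_Iio] at ha hb
      have := congrArg ZMod.val h
      rwa [ZMod.val_natCast, ZMod.val_natCast, Nat.mod_eq_of_lt ha, Nat.mod_eq_of_lt hb] at this
    · intro m _
      exact ⟨m.val, by simpa using ZMod.val_lt m, ZMod.natCast_zmod_val m⟩
  have hpow : ∀ j i : ℕ, (y * x ^ j) ^ i = y ^ i * x ^ (i * j) := fun j i => by
    rw [(hxy.symm.pow_right j).mul_pow, ← pow_mul, mul_comm i j]
  have hzp : ∀ j : ℕ, ∀ s, φ ((y * x ^ j) ^ p) s = s := fun j s => by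
    rw [hpow, map_mul, MulAut.mul_apply, hpm x hxp]
    rw [Nat.mul_mod_right, pow_zero, map_one, MulAut.one_apply, hyp]
  have hlhs : (∏ j ∈ Finset.range p, ∏ i ∈ Finset.range p, φ ((y * x ^ j) ^ i) r) ∈ W :=
    Subgroup.prod_mem W fun j _ => hline _ (Or.inr ⟨j, hshift _ (hzp j) r⟩)
  have hrow : ∀ i, 0 < i → i < p → ∏ j ∈ Finset.range p, φ ((y * x ^ j) ^ i) r = Nx := by
    intro i hi0 hip
    simp only [hpow, map_mul, MulAut.mul_apply, ← map_prod, hf, Nat.cast_mul]
    have hi : (i : ZMod p) ≠ 0 := fun h => by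
      have := Nat.le_of_dvd hi0 ((ZMod.natCast_eq_zero_iff i p).1 h)
      omega
    have : ∏ j ∈ Finset.range p, f ((i : ZMod p) * (j : ZMod p)) = Nx := by
      rw [← hNxf]
      refine Finset.prod_nbij (fun j : ℕ => (i : ZMod p) * (j : ZMod p))
        (fun j _ => Finset.mem_univ _) ?_ ?_ fun j _ => rfl
      · intro a ha b hb h
        simp only [Finset.coe_range, Set.mem_Iio] at ha hb
        have := congrArg ZMod.val (mul_left_cancel₀ hi h)
        rwa [ZMod.val_natCast, ZMod.val_natCast, Nat.mod_eq_of_lt ha, Nat.mod_eq_of_lt hb] at this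
      · intro m _
        refine ⟨((i : ZMod p)⁻¹ * m).val, by simpa using ZMod.val_lt _, ?_⟩
        simp only [ZMod.natCast_zmod_val, mul_inv_cancel_left₀ hi]
    rw [this]
    clear this
    induction i with
    | zero => omega
    | succ i ih =>
      rcases Nat.eq_zero_or_pos i with rfl | h
      · rw [pow_one]; exact hWy _ hNxW
      · rw [pow_succ, map_mul, MulAut.mul_apply, hWy _ hNxW]
        exact ih h (by omega) (fun h0 => by
          have := Nat.le_of_dvd h ((ZMod.natCast_eq_zero_iff i p).1 h0)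
          omega)
  rw [Finset.prod_comm] at hlhs
  rw [show Finset.range p = Finset.range (p - 1 + 1) by rw [Nat.sub_add_cancel hp.out.one_le],
    Finset.prod_range_succ'] at hlhs
  rw [show Finset.range (p - 1 + 1) = Finset.range p by rw [Nat.sub_add_cancel hp.out.one_le],
    Finset.prod_congr rfl fun i hi => hrow (i + 1) (Nat.succ_pos i)
      (by have := Finset.mem_range.1 hi; omega)] at hlhs
  simp only [pow_zero, map_one, MulAut.one_apply, Finset.prod_const, Finset.card_range] at hlhs
  exact (Subgroup.mul_mem_cancel_left W (pow_mem hNxW _)).1 hlhs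

end CfsgLib.LocalEven.JNormComplement
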