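import Mathlib

/-!
# A fixed point free element of order `p` modulo a normal subgroup acting in characteristic `p`

If `a` acts on an elementary abelian `p`-group together with a group `R` of order prime to `p` on
which `a ^ (p ^ (e - 1))` is fixed point free, then `(a - 1) ^ (p ^ (e - 1) * (p - 1))` is nonzero
unless `R` acts trivially.
-/

set_option autoImplicit false
set_option linter.style.haveILetI false
set_option linter.unusedSectionVars false

namespace CfsgLib.LocalEven.JNormComplement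

open Polynomial

theorem X_sub_one_pow_eq_sum {p : ℕ} [hp : Fact p.Prime] (d : ℕ) :
    ((X : (ZMod p)[X]) - 1) ^ (p ^ d * (p - 1)) = ∑ i ∈ Finset.range p, (X ^ p ^ d) ^ i := by
  rw [pow_mul, sub_pow_char_pow, one_pow]
  have hne : ((X : (ZMod p)[X]) ^ p ^ d - 1) ≠ 0 := fun h => by
    have h' := congrArg Polynomial.natDegree h
    rw [← Polynomial.C_1, Polynomial.natDegree_X_pow_sub_C, Polynomial.natDegree_zero] at h'
    exact (pow_pos hp.out.pos d).ne' h'
  refine mul_right_cancel₀ hne ?_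
  rw [geom_sum_mul, ← pow_succ, Nat.sub_add_cancel hp.out.one_le]
  have h := sub_pow_char_pow (R := (ZMod p)[X]) (p := p) (n := 1)
    (X ^ p ^ d) 1
  simpa using h

variable {V : Type*} [AddCommGroup V] {Y : Type*} [Group Y]

theorem exists_pow_sub_one_apply_ne_zero {p e : ℕ} [hp : Fact p.Prime]
    (hV : ∀ x : V, p • x = 0) (ρ : Y →* AddMonoid.End V) (a : Y) (R : Subgroup Y) [Finite R]
    (hcop : (Nat.card R).Coprime p)
    (hψ : ∀ i, 0 < i → i < p → ∃ ψ : R → R, Function.Injective ψ ∧ ∀ r : R,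
      ρ ((r : Y) * ((a ^ p ^ e) ^ i * (r : Y) * ((a ^ p ^ e) ^ i)⁻¹)⁻¹) = ρ (ψ r : Y))
    (hne : ∃ r ∈ R, ρ r ≠ 1) :
    ∃ w : V, ((ρ a - 1) ^ (p ^ e * (p - 1))) w ≠ 0 := by
  classical
  obtain ⟨r₀, hr₀, hr₀1⟩ := hne
  have : Nontrivial (AddMonoid.End V) := ⟨⟨_, _, hr₀1⟩⟩
  have hp0 : (p : AddMonoid.End V) = 0 := by
    ext x
    rw [AddMonoid.End.natCast_def]
    exact hV x
  haveI : CharP (AddMonoid.End V) p := (CharP.charP_iff_prime_eq_zero hp.out).2 hp0
  letI : Algebra (ZMod p) (AddMonoid.End V) := ZMod.algebra _ p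
  by_contra hall
  simp only [not_exists, not_not] at hall
  have hzero : (ρ a - 1) ^ (p ^ e * (p - 1)) = 0 := AddMonoidHom.ext hall
  have hsum : ∑ i ∈ Finset.range p, ρ ((a ^ p ^ e) ^ i) = 0 := by
    have h := congrArg (Polynomial.aeval (ρ a)) (X_sub_one_pow_eq_sum (p := p) e)
    simp only [map_pow, map_sub, map_one, map_sum, Polynomial.aeval_X, hzero] at h
    simp only [map_pow]
    exact h.symm
  have : Fintype R := Fintype.ofFinite R
  set T : AddMonoid.End V := ∑ r : R, ρ (r : Y) with hT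
  have hrow : ∀ i, 0 < i → i < p →
      ∑ r : R, ρ (r : Y) * ρ ((a ^ p ^ e) ^ i) * ρ (r : Y)⁻¹ = T * ρ ((a ^ p ^ e) ^ i) := by
    intro i hi0 hip
    obtain ⟨ψ, hinj, hρ⟩ := hψ i hi0 hip
    have hterm : ∀ r : R, ρ (r : Y) * ρ ((a ^ p ^ e) ^ i) * ρ (r : Y)⁻¹ =
        ρ (ψ r : Y) * ρ ((a ^ p ^ e) ^ i) := by
      intro r
      rw [← hρ r, ← map_mul, ← map_mul, ← map_mul]
      congr 1
      group
    rw [Finset.sum_congr rfl fun r _ => hterm r, hT, Finset.sum_mul]
    exact Equiv.sum_comp (Equiv.ofBijective ψ (Finite.injective_iff_bijective.1 hinj))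
      fun r : R => ρ (r : Y) * ρ ((a ^ p ^ e) ^ i)
  have htot : ∑ i ∈ Finset.range p,
      ∑ r : R, ρ (r : Y) * ρ ((a ^ p ^ e) ^ i) * ρ (r : Y)⁻¹ = 0 := by
    rw [Finset.sum_comm]
    refine Finset.sum_eq_zero fun r _ => ?_
    rw [← Finset.sum_mul, ← Finset.mul_sum, hsum, mul_zero, zero_mul]
  have hp1 : Finset.range p = Finset.range (p - 1 + 1) := by
    rw [Nat.sub_add_cancel hp.out.one_le]
  rw [hp1, Finset.sum_range_succ'] at htot hsum
  rw [Finset.sum_congr rfl fun i hi => hrow (i + 1) (Nat.succ_pos i)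
    (by have := Finset.mem_range.1 hi; omega)] at htot
  rw [← Finset.mul_sum] at htot
  simp only [pow_zero, map_one] at hsum
  rw [add_eq_zero_iff_eq_neg.1 hsum] at htot
  have hcard : T = (Nat.card R : AddMonoid.End V) := by
    simp only [pow_zero, map_one, mul_one, mul_neg, ← map_mul, mul_inv_cancel, Finset.sum_const,
      Finset.card_univ, nsmul_eq_mul, mul_one] at htot
    rw [Nat.card_eq_fintype_card]
    exact (eq_of_sub_eq_zero (by rw [sub_eq_add_neg, add_comm]; exact htot)).symm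
  have hfix : ρ r₀ * T = T := by
    rw [hT, Finset.mul_sum]
    simp only [← map_mul]
    exact Equiv.sum_comp (Equiv.mulLeft (⟨r₀, hr₀⟩ : R)) fun r : R => ρ (r : Y)
  have hunit : IsUnit (Nat.card R : AddMonoid.End V) := by
    have := ((ZMod.unitOfCoprime _ hcop).isUnit).map (algebraMap (ZMod p) (AddMonoid.End V))
    rwa [ZMod.coe_unitOfCoprime, map_natCast] at this
  rw [hcard] at hfix
  exact hr₀1 (hunit.mul_right_cancel (by rw [hfix, one_mul]))

end CfsgLib.LocalEven.JNormComplement
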