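import Cfsg.Agent.Lib.LocalEven.JAbel

/-!
# Small tools: invariant subgroups, nilpotent chains, iterated kernels
-/

set_option autoImplicit false
set_option linter.style.haveILetI false
set_option linter.unusedSectionVars false

namespace CfsgLib.LocalEven.JNormComplement

open scoped commutatorElement

variable {G : Type*} [Group G]

theorem mem_normalizer_of_conj_mem [Finite G] {K : Subgroup G} {g : G}
    (h : ∀ x ∈ K, g * x * g⁻¹ ∈ K) : g ∈ Subgroup.normalizer (K : Set G) := by
  have hle : K.map (MulAut.conj g).toMonoidHom ≤ K := by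
    rintro _ ⟨x, hx, rfl⟩
    exact h x hx
  have heq := Subgroup.eq_of_le_of_card_ge hle
    (le_of_eq (Subgroup.card_map_of_injective (MulAut.conj g).injective).symm)
  refine Subgroup.mem_normalizer_iff.2 fun x => ⟨h x, fun hx => ?_⟩
  obtain ⟨y, hy, e⟩ := heq.ge hx
  exact (MulAut.conj g).injective e ▸ hy

theorem conj_mem_of_mem_normalizer {K : Subgroup G} {g x : G}
    (hg : g ∈ Subgroup.normalizer (K : Set G)) (hx : x ∈ K) : g * x * g⁻¹ ∈ K :=
  (Subgroup.mem_normalizer_iff.1 hg x).1 hx

theorem le_normalizer_sSup [Finite G] {Y : Subgroup G} {T : Set (Subgroup G)}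
    (h : ∀ C ∈ T, Y ≤ Subgroup.normalizer (C : Set G)) :
    Y ≤ Subgroup.normalizer ((sSup T : Subgroup G) : Set G) := by
  intro g hg
  refine mem_normalizer_of_conj_mem fun x hx => ?_
  have hle : sSup T ≤ (sSup T).comap (MulAut.conj g).toMonoidHom :=
    sSup_le fun C hC y hy => le_sSup hC (conj_mem_of_mem_normalizer (h C hC hg) hy)
  exact hle hx

theorem le_normalizer_commutator_of_le [Finite G] {Y B C : Subgroup G}
    (hB : Y ≤ Subgroup.normalizer (B : Set G)) (hC : Y ≤ Subgroup.normalizer (C : Set G)) :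
    Y ≤ Subgroup.normalizer ((⁅B, C⁆ : Subgroup G) : Set G) := by
  intro g hg
  refine mem_normalizer_of_conj_mem fun x hx => ?_
  have hle : ⁅B, C⁆ ≤ (⁅B, C⁆ : Subgroup G).comap (MulAut.conj g).toMonoidHom := by
    refine Subgroup.commutator_le.2 fun b hb c hc => ?_
    rw [Subgroup.mem_comap, map_commutatorElement]
    exact Subgroup.commutator_mem_commutator (conj_mem_of_mem_normalizer (hB hg) hb)
      (conj_mem_of_mem_normalizer (hC hg) hc)
  exact hle hx

/-- In a nilpotent group only the trivial subgroup lies in its commutator with a subgroup. -/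
theorem eq_bot_of_le_commutator {S X K : Subgroup G} (hS : Group.IsNilpotent S) (hX : X ≤ S)
    (hK : K ≤ S) (h : X ≤ ⁅X, K⁆) : X = ⊥ := by
  obtain ⟨n, hn⟩ := Subgroup.isNilpotent_iff_lowerCentralSeries S |>.1 hS
  have key : ∀ m, X ≤ S.lowerCentralSeries m := by
    intro m
    induction m with
    | zero => exact hX
    | succ m ih => exact h.trans (Subgroup.commutator_mono ih hK)
  exact le_bot_iff.1 (hn ▸ key n)

/-- Iterated commutators with a fixed element vanish in a nilpotent group. -/
theorem exists_iterate_eq_one {S : Subgroup G} (hS : Group.IsNilpotent S) {a : G} (ha : a ∈ S)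
    {x : G} (hx : x ∈ S) : ∃ n, (fun y => y⁻¹ * (a * y * a⁻¹))^[n] x = 1 := by
  obtain ⟨n, hn⟩ := Subgroup.isNilpotent_iff_lowerCentralSeries S |>.1 hS
  refine ⟨n, Subgroup.mem_bot.1 (hn ▸ ?_)⟩
  clear hn
  induction n with
  | zero => exact hx
  | succ m ih =>
    rw [Function.iterate_succ_apply']
    have := Subgroup.commutator_mem_commutator (inv_mem ih) ha
    simpa [commutatorElement_def, mul_assoc] using this

/-- A finite abelian `p`-group with `u` nilpotent and a subgroup of index at most `p ^ e` killed by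
`u`: then `u ^ (e + 1) = 0`. -/
theorem iterate_succ_eq_zero {M : Type*} [AddCommGroup M] [Finite M] {p n e : ℕ}
    [hp : Fact p.Prime] (hM : Nat.card M = p ^ n) (u : M →+ M) (hnil : ∀ x, ∃ k, (⇑u)^[k] x = 0)
    (F : AddSubgroup M) (hF : ∀ x ∈ F, u x = 0) (hcard : Nat.card M ≤ p ^ e * Nat.card F) :
    ∀ x, (⇑u)^[e + 1] x = 0 := by
  classical
  by_contra hne
  obtain ⟨x, hx⟩ := not_forall.1 hne
  let K : ℕ → AddSubgroup M := fun m =>
    { carrier := {y | (⇑u)^[m] y = 0}
      zero_mem' := iterate_map_zero u m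
      add_mem' := fun {y z} hy hz => by
        change (⇑u)^[m] (y + z) = 0
        rw [iterate_map_add, Set.mem_setOf_eq.mp hy, Set.mem_setOf_eq.mp hz, add_zero]
      neg_mem' := fun {y} hy => by
        change (⇑u)^[m] (-y) = 0
        rw [iterate_map_neg, Set.mem_setOf_eq.mp hy, neg_zero] }
  have hmono : ∀ m, K m ≤ K (m + 1) := fun m y (hy : (⇑u)^[m] y = 0) => by
    change (⇑u)^[m + 1] y = 0
    rw [Function.iterate_succ_apply', hy, map_zero]
  have hlt : ∀ m, m ≤ e → K m < K (m + 1) := by
    intro m hm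
    refine lt_of_le_of_ne (hmono m) fun heq => ?_
    obtain ⟨k, hk⟩ := hnil x
    have hall : ∀ j, m ≤ j → ∀ y, (⇑u)^[j] y = 0 → (⇑u)^[m] y = 0 := by
      intro j hj
      induction j, hj using Nat.le_induction with
      | base => exact fun _ h => h
      | succ j hj ih =>
        intro y hy
        rw [Function.iterate_succ_apply] at hy
        have h1 : y ∈ K (m + 1) := by
          change (⇑u)^[m + 1] y = 0
          rw [Function.iterate_succ_apply]
          exact ih _ hy
        rw [← heq] at h1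
        exact h1
    have h1 : (⇑u)^[max k m] x = 0 := by
      rw [← Nat.sub_add_cancel (le_max_left k m), Function.iterate_add_apply, hk, iterate_map_zero]
    have h2 := hall _ (le_max_right k m) x h1
    apply hx
    rw [show e + 1 = (e + 1 - m) + m by omega, Function.iterate_add_apply, h2, iterate_map_zero]
  have hstep : ∀ m, m ≤ e → p * Nat.card (K m) ≤ Nat.card (K (m + 1)) := by
    intro m hm
    obtain ⟨i, -, hi⟩ := (Nat.dvd_prime_pow hp.out).1 (hM ▸ (K m).card_addSubgroup_dvd_card)
    obtain ⟨j, -, hj⟩ := (Nat.dvd_prime_pow hp.out).1 (hM ▸ (K (m + 1)).card_addSubgroup_dvd_card)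
    have hlt' : Nat.card (K m) < Nat.card (K (m + 1)) := by
      refine lt_of_le_of_ne (AddSubgroup.card_le_of_le (hmono m)) fun heq => ?_
      exact (hlt m hm).ne (AddSubgroup.eq_of_le_of_card_ge (hmono m) heq.ge)
    rw [hi, hj] at hlt' ⊢
    rw [← pow_succ']
    exact Nat.pow_le_pow_right hp.out.pos ((Nat.pow_lt_pow_iff_right hp.out.one_lt).1 hlt')
  have hbig : ∀ m, m ≤ e → p ^ m * Nat.card F ≤ Nat.card (K (m + 1)) := by
    intro m
    induction m with
    | zero =>
      intro _
      rw [pow_zero, one_mul]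
      exact AddSubgroup.card_le_of_le fun y hy => hF y hy
    | succ m ih =>
      intro hm
      rw [pow_succ', mul_assoc]
      exact (Nat.mul_le_mul_left p (ih (by omega))).trans (hstep (m + 1) hm)
  have htop : K (e + 1) = ⊤ :=
    AddSubgroup.eq_top_of_le_card _ (hcard.trans (hbig e le_rfl))
  exact hx (htop.ge (AddSubgroup.mem_top x))

/-- The span of the tail of a `u`-chain of length `l` in an elementary abelian group: its order
is at least `p ^ (l + 1 - i)` and `u` kills at most `p` of its elements. -/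
theorem card_span_tail {V : Type*} [AddCommGroup V] [Finite V] {p l : ℕ} [hp : Fact p.Prime]
    (hV : ∀ x : V, p • x = 0) (u : V →+ V) (w : V) (hl : (⇑u)^[l] w ≠ 0)
    (hl1 : (⇑u)^[l + 1] w = 0) {i : ℕ} (hi : i ≤ l) :
    p ^ (l + 1 - i) ≤ Nat.card (AddSubgroup.closure {x | ∃ j, i ≤ j ∧ x = (⇑u)^[j] w}) ∧
      Nat.card ↥(AddSubgroup.closure {x | ∃ j, i ≤ j ∧ x = (⇑u)^[j] w} ⊓ u.ker) ≤ p := by
  classical
  set Ls : ℕ → AddSubgroup V :=
    fun i => AddSubgroup.closure {x | ∃ j, i ≤ j ∧ x = (⇑u)^[j] w} with hLs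
  have hmem : ∀ i j, i ≤ j → (⇑u)^[j] w ∈ Ls i := fun i j h =>
    AddSubgroup.subset_closure ⟨j, h, rfl⟩
  have hzero : ∀ j, l + 1 ≤ j → (⇑u)^[j] w = 0 := fun j hj => by
    rw [← Nat.sub_add_cancel hj, Function.iterate_add_apply, hl1, iterate_map_zero]
  have hmap : ∀ i, (Ls i).map u = Ls (i + 1) := by
    intro i
    rw [hLs, AddMonoidHom.map_closure]
    congr 1
    ext x
    constructor
    · rintro ⟨_, ⟨j, hj, rfl⟩, rfl⟩
      exact ⟨j + 1, by omega, (Function.iterate_succ_apply' _ _ _).symm⟩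
    · rintro ⟨j, hj, rfl⟩
      obtain ⟨j, rfl⟩ : ∃ k, j = k + 1 := ⟨j - 1, by omega⟩
      exact ⟨_, ⟨j, by omega, rfl⟩, (Function.iterate_succ_apply' _ _ _).symm⟩
  have hsplit : ∀ i, Nat.card (Ls i) = Nat.card ↥(Ls i ⊓ u.ker) * Nat.card (Ls (i + 1)) := by
    intro i
    set f : Ls i →+ V := u.comp (Ls i).subtype with hf
    have h1 : Nat.card f.ker * f.ker.index = Nat.card (Ls i) := f.ker.card_mul_index
    rw [AddSubgroup.index_ker] at h1
    have h2 : f.range = Ls (i + 1) := by
      rw [hf, AddMonoidHom.range_comp, AddSubgroup.range_subtype, hmap]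
    have h3 : Nat.card f.ker = Nat.card ↥(Ls i ⊓ u.ker) :=
      Nat.card_congr
        { toFun := fun x => ⟨x.1.1, x.1.2, x.2⟩
          invFun := fun x => ⟨⟨x.1, x.2.1⟩, x.2.2⟩
          left_inv := fun _ => rfl
          right_inv := fun _ => rfl }
    rw [h2, h3] at h1
    exact h1.symm
  have hone : ∀ i, Nat.card (Ls i) ≤ p * Nat.card (Ls (i + 1)) := by
    intro i
    have hle : ∀ x ∈ Ls i, ∃ k : ℕ, k < p ∧ x - k • (⇑u)^[i] w ∈ Ls (i + 1) := by
      intro x hx
      induction hx using AddSubgroup.closure_induction with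
      | mem y hy =>
        obtain ⟨j, hj, rfl⟩ := hy
        rcases eq_or_lt_of_le hj with rfl | hlt
        · exact ⟨1, hp.out.one_lt, by rw [one_smul, sub_self]; exact zero_mem _⟩
        · exact ⟨0, hp.out.pos, by rw [zero_smul, sub_zero]; exact hmem _ _ hlt⟩
      | zero => exact ⟨0, hp.out.pos, by rw [zero_smul, sub_zero]; exact zero_mem _⟩
      | add y z _ _ hy hz =>
        obtain ⟨k, hk, hy⟩ := hy
        obtain ⟨m, hm, hz⟩ := hz
        refine ⟨(k + m) % p, Nat.mod_lt _ hp.out.pos, ?_⟩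
        have : ((k + m) % p) • (⇑u)^[i] w = (k + m) • (⇑u)^[i] w := by
          conv_rhs => rw [← Nat.mod_add_div (k + m) p, add_smul, mul_smul, hV, add_zero]
        rw [this, add_smul, show y + z - (k • (⇑u)^[i] w + m • (⇑u)^[i] w) =
          (y - k • (⇑u)^[i] w) + (z - m • (⇑u)^[i] w) by abel]
        exact add_mem hy hz
      | neg y _ hy =>
        obtain ⟨k, hk, hy⟩ := hy
        refine ⟨(p - k) % p, Nat.mod_lt _ hp.out.pos, ?_⟩
        have : ((p - k) % p) • (⇑u)^[i] w = (p - k) • (⇑u)^[i] w := by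
          conv_rhs => rw [← Nat.mod_add_div (p - k) p, add_smul, mul_smul, hV, add_zero]
        have hsum : (p - k) • (⇑u)^[i] w = -(k • (⇑u)^[i] w) := by
          rw [eq_neg_iff_add_eq_zero, ← add_smul, Nat.sub_add_cancel hk.le, hV]
        rw [this, hsum, show -y - -(k • (⇑u)^[i] w) = -(y - k • (⇑u)^[i] w) by abel]
        exact neg_mem hy
    choose k hk hk' using fun x : Ls i => hle x.1 x.2
    have := Nat.card_le_card_of_injective
      (fun x : Ls i => ((⟨k x, hk x⟩ : Fin p), (⟨_, hk' x⟩ : Ls (i + 1)))) fun x y h => by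
        have h1 : k x = k y := congrArg (fun z => (z.1 : ℕ)) h
        have h2 : (x : V) - k x • (⇑u)^[i] w = (y : V) - k y • (⇑u)^[i] w :=
          congrArg (fun z => ((z.2 : Ls (i + 1)) : V)) h
        rw [h1] at h2
        exact Subtype.ext (sub_left_injective h2)
    rwa [Nat.card_prod, Nat.card_fin] at this
  have hker : ∀ i, i ≤ l → p ≤ Nat.card ↥(Ls i ⊓ u.ker) := by
    intro i hi
    have hx : (⇑u)^[l] w ∈ Ls i ⊓ u.ker :=
      ⟨hmem _ _ hi, by
        show u ((⇑u)^[l] w) = 0
        rw [← Function.iterate_succ_apply' (⇑u)]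
        exact hl1⟩
    have hord : addOrderOf ((⇑u)^[l] w) = p := addOrderOf_eq_prime (hV _) hl
    calc p = Nat.card (AddSubgroup.zmultiples ((⇑u)^[l] w)) := by rw [Nat.card_zmultiples, hord]
      _ ≤ _ := AddSubgroup.card_le_of_le ((AddSubgroup.zmultiples_le_of_mem hx))
  refine ⟨?_, ?_⟩
  · have key : ∀ d i, i + d = l + 1 → p ^ d ≤ Nat.card (Ls i) := by
      intro d
      induction d with
      | zero => intro i _; rw [pow_zero]; exact Nat.card_pos
      | succ d ih =>
        intro i hi
        rw [pow_succ', hsplit i]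
        exact Nat.mul_le_mul (hker i (by omega)) (ih (i + 1) (by omega))
    exact key _ i (by omega)
  · have h := hone i
    rw [hsplit i] at h
    exact Nat.le_of_mul_le_mul_right h Nat.card_pos

end CfsgLib.LocalEven.JNormComplement
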