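import Cfsg.Agent.Lib.LocalEven.JNormComplement.Chain
import Cfsg.Agent.Lib.LocalEven.JNormComplement.Section
import Cfsg.Agent.Lib.LocalEven.JNormComplement.Tools
import Cfsg.Agent.Lib.Coprime.Action

/-!
# An abelian subgroup of largest order cannot act fixed point freely on a `p'`-group

Let `A` be an abelian subgroup of largest order of the `p`-group `S`, `p ≥ 5`, let `Q ≤ S` be a
normal `p`-subgroup and `A = H⟨a⟩` with `|A : H| ∣ p ^ e`.  Then no `p'`-subgroup `R` acting
nontrivially on `Q` is normalised by `a` and centralised by `H` modulo `Q` with `a ^ (p ^ (e - 1))`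
fixed point free on it modulo `Q`.
-/

set_option autoImplicit false
set_option linter.style.haveILetI false
set_option linter.unusedSectionVars false

namespace CfsgLib.LocalEven.JNormComplement

open scoped commutatorElement

/-- The numerical bound on the length of the chain. -/
theorem three_mul_add_two_le {p : ℕ} (hp : 5 ≤ p) {e l : ℕ} (he : 0 < e)
    (hl : p ^ (e - 1) * (p - 1) ≤ l) : 3 * e + 2 ≤ l ∨ l = 4 ∧ e = 1 := by
  obtain ⟨d, rfl⟩ : ∃ d, e = d + 1 := ⟨e - 1, by omega⟩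
  rw [Nat.add_sub_cancel] at hl
  rcases Nat.eq_zero_or_pos d with rfl | hd
  · rw [pow_zero, one_mul] at hl
    omega
  · have h5 : 4 * d + 1 ≤ 5 ^ d := by
      clear hl hd
      induction d with
      | zero => simp
      | succ d ih => rw [pow_succ]; omega
    have : 5 ^ d * 4 ≤ p ^ d * (p - 1) := Nat.mul_le_mul (Nat.pow_le_pow_left hp d) (by omega)
    left; omega

theorem false_of_offender {p : ℕ} [hpf : Fact p.Prime] (hp : 5 ≤ p) {G : Type*} [Group G] [Finite G]
    {S Q A H R : Subgroup G} {a : G} {e : ℕ} (hS : IsPGroup p S) (hA : A ∈ maxAb S)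
    [hQn : Q.Normal] (hQS : Q ≤ S) (hHA : H ≤ A) (ha : a ∈ A) (he : 0 < e)
    (hae : a ^ p ^ e ∈ H) (hgen : ∀ x ∈ A, ∃ k : ℕ, ∃ h ∈ H, x = h * a ^ k)
    (hR : (Nat.card R).Coprime p) (hRQ : ¬ R ≤ Subgroup.centralizer (Q : Set G))
    (haR : ∀ r ∈ R, a * r * a⁻¹ ∈ Q ⊔ R) (hHR : ∀ h ∈ H, ∀ r ∈ R, ⁅h, r⁆ ∈ Q)
    (hfpf : ∀ r ∈ R, ⁅a ^ p ^ (e - 1), r⁆ ∈ Q → r = 1) : False := by
  classical
  obtain ⟨hAS, hAc, hAmax⟩ := mem_maxAb.1 hA
  have hSnil : Group.IsNilpotent S := hS.isNilpotent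
  -- the acting group
  set Q1 := Q ⊔ H with hQ1
  set Y := Q1 ⊔ R ⊔ Subgroup.zpowers a with hY
  have hQY : Q ≤ Y := le_sup_left.trans (le_sup_left.trans le_sup_left)
  have hHY : H ≤ Y := le_sup_right.trans (le_sup_left.trans le_sup_left)
  have hRY : R ≤ Y := le_sup_right.trans le_sup_left
  have haY : a ∈ Y := le_sup_right (a := Q1 ⊔ R) (Subgroup.mem_zpowers a)
  have hAY : A ≤ Y := by
    intro x hx
    obtain ⟨k, h, hh, rfl⟩ := hgen x hx
    exact Y.mul_mem (hHY hh) (Y.pow_mem haY k)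
  have hQ1Y : Q1 ≤ Y := le_sup_left.trans le_sup_left
  have hQ1S : Q1 ≤ S := sup_le hQS (hHA.trans hAS)
  have haQR : a ∈ Subgroup.normalizer ((Q ⊔ R : Subgroup G) : Set G) := by
    refine mem_normalizer_of_conj_mem fun x hx => ?_
    obtain ⟨q, hq, r, hr, rfl⟩ := Subgroup.mem_sup_of_normal_left.1 hx
    rw [show a * (q * r) * a⁻¹ = a * q * a⁻¹ * (a * r * a⁻¹) by group]
    exact mul_mem (Subgroup.mem_sup_left (hQn.conj_mem q hq a)) (haR r hr)
  have hYQ1 : Y ≤ Subgroup.normalizer (Q1 : Set G) := by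
    refine sup_le (sup_le Subgroup.le_normalizer ?_) ?_
    · intro r hr
      refine mem_normalizer_of_conj_mem fun x hx => ?_
      obtain ⟨q, hq, h, hh, rfl⟩ := Subgroup.mem_sup_of_normal_left.1 hx
      rw [show r * (q * h) * r⁻¹ = r * q * r⁻¹ * (h * (h⁻¹ * r * h * r⁻¹)) by group]
      refine mul_mem (Subgroup.mem_sup_left (hQn.conj_mem q hq r))
        (mul_mem (Subgroup.mem_sup_right hh) (Subgroup.mem_sup_left ?_))
      have := hHR h⁻¹ (inv_mem hh) r hr
      rwa [commutatorElement_def, inv_inv] at this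
    · rw [Subgroup.zpowers_le]
      refine mem_normalizer_of_conj_mem fun x hx => ?_
      obtain ⟨q, hq, h, hh, rfl⟩ := Subgroup.mem_sup_of_normal_left.1 hx
      have hah : a * h * a⁻¹ = h := by
        rw [← CfsgLib.PLocal.comm_of_mem hAc (hHA hh) ha, mul_inv_cancel_right]
      rw [show a * (q * h) * a⁻¹ = a * q * a⁻¹ * (a * h * a⁻¹) by group, hah]
      exact mul_mem (Subgroup.mem_sup_left (hQn.conj_mem q hq a)) (Subgroup.mem_sup_right hh)
  -- the minimal invariant subgroup `B`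
  obtain ⟨B, hBmin⟩ := (Set.toFinite {C : Subgroup G | C ≤ Q ∧
      Y ≤ Subgroup.normalizer (C : Set G) ∧ ¬ R ≤ Subgroup.centralizer (C : Set G)}).exists_minimal
    ⟨Q, le_rfl, by rw [Subgroup.normalizer_eq_top (H := Q)]; exact le_top, hRQ⟩
  obtain ⟨hBQ, hYB, hRB⟩ := hBmin.1
  have hsmall : ∀ C : Subgroup G, C ≤ B → C ≠ B → Y ≤ Subgroup.normalizer (C : Set G) →
      R ≤ Subgroup.centralizer (C : Set G) := by
    intro C hCB hne hYC
    by_contra hnot
    exact hne (le_antisymm hCB (hBmin.2 ⟨hCB.trans hBQ, hYC, hnot⟩ hCB))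
  set N := sSup {C : Subgroup G | C ≤ B ∧ C ≠ B ∧ Y ≤ Subgroup.normalizer (C : Set G)} with hN
  have hNB : N ≤ B := sSup_le fun C hC => hC.1
  have hRN : R ≤ Subgroup.centralizer (N : Set G) := Subgroup.le_centralizer_iff.1
    (sSup_le fun C hC => Subgroup.le_centralizer_iff.1 (hsmall C hC.1 hC.2.1 hC.2.2))
  have hNne : N ≠ B := fun h => hRB (h ▸ hRN)
  have hYN : Y ≤ Subgroup.normalizer (N : Set G) := le_normalizer_sSup fun C hC => hC.2.2
  have hleN : ∀ C : Subgroup G, C ≤ B → C ≠ B → Y ≤ Subgroup.normalizer (C : Set G) → C ≤ N :=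
    fun C h1 h2 h3 => le_sSup ⟨h1, h2, h3⟩
  have hBY : B ≤ Y := hBQ.trans hQY
  have hBS : B ≤ S := hBQ.trans hQS
  have hBp : IsPGroup p B := hS.to_le hBS
  have hcop : (Nat.card R).Coprime (Nat.card B) := by
    obtain ⟨n, hn⟩ := IsPGroup.iff_card.1 hBp
    rw [hn]
    exact hR.pow_right n
  have hBsol : Group.IsSolvable B := by
    have : Group.IsNilpotent B := hBp.isNilpotent
    infer_instance
  have hRnB : R ≤ Subgroup.normalizer (B : Set G) := hRY.trans hYB
  -- `R` moves `B` modulo any subgroup it centralises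
  have hBR : ∀ C : Subgroup G, R ≤ Subgroup.centralizer (C : Set G) → ¬ ⁅B, R⁆ ≤ C := by
    intro C hC hle
    have h1 : ⁅⁅B, R⁆, R⁆ = ⊥ := by
      rw [Subgroup.commutator_eq_bot_iff_le_centralizer]
      exact hle.trans (Subgroup.le_centralizer_iff.1 hC)
    rw [CfsgLib.Coprime.commutator_commutator_eq hRnB hcop (Or.inr hBsol),
      Subgroup.commutator_eq_bot_iff_le_centralizer] at h1
    exact hRB (Subgroup.le_centralizer_iff.1 h1)
  have hNZ : B ≤ Subgroup.centralizer (N : Set G) := by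
    have hBN' : ⁅N, B⁆ ≤ N :=
      Subgroup.le_normalizer_iff_commutator_le_left.1 (hBY.trans hYN)
    have h3 : ⁅⁅B, R⁆, N⁆ = ⊥ := by
      refine Subgroup.commutator_commutator_eq_bot_of_rotate ?_ ?_
      · rw [(Subgroup.commutator_eq_bot_iff_le_centralizer).2 hRN, Subgroup.commutator_bot_left]
      · rw [Subgroup.commutator_eq_bot_iff_le_centralizer]
        exact hBN'.trans (Subgroup.le_centralizer_iff.1 hRN)
    rw [Subgroup.commutator_eq_bot_iff_le_centralizer] at h3
    by_contra hnot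
    have hinv : Y ≤ Subgroup.normalizer ((B ⊓ Subgroup.centralizer (N : Set G) : Subgroup G) : Set G) :=
      CfsgLib.Coprime.le_normalizer_inf_inf hYB (CfsgLib.Coprime.le_normalizer_centralizer hYN)
    have hle := hleN _ inf_le_left (fun h => hnot (inf_eq_left.1 h)) hinv
    exact hBR N hRN
      ((le_inf (CfsgLib.Coprime.commutator_le_of_le_normalizer hRnB) h3).trans hle)
  have hcen : ∀ n ∈ N, ∀ b ∈ B, b * n = n * b := fun n hn b hb => (hNZ hb n hn).symm
  have hBne : B ≠ ⊥ := by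
    intro h
    exact hRB (h ▸ fun r _ => Subgroup.mem_centralizer_iff.2 fun x hx => by
      rw [Subgroup.mem_bot.1 hx, one_mul, mul_one])
  have hBQ1 : ⁅B, Q1⁆ ≤ N := by
    refine hleN _ ?_ ?_ (le_normalizer_commutator_of_le hYB hYQ1)
    · exact CfsgLib.Coprime.commutator_le_of_le_normalizer (hQ1Y.trans hYB)
    · intro h
      exact hBne (eq_bot_of_le_commutator hSnil hBS hQ1S h.ge)
  have hBB : ∀ x ∈ B, ∀ y ∈ B, ⁅x, y⁆ ∈ N := fun x hx y hy =>
    hBQ1 (Subgroup.commutator_mem_commutator hx (Subgroup.mem_sup_left (hBQ hy)))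
  -- the section `W = B / N`
  have : (N.subgroupOf B).Normal :=
    Subgroup.normal_subgroupOf_of_le_normalizer (hBY.trans hYN)
  set π := QuotientGroup.mk' (N.subgroupOf B) with hπ
  letI : CommGroup (↥B ⧸ N.subgroupOf B) :=
    { (inferInstance : Group (↥B ⧸ N.subgroupOf B)) with
      mul_comm := by
        intro x y
        induction x using QuotientGroup.induction_on with
        | _ x =>
          induction y using QuotientGroup.induction_on with
          | _ y =>
            rw [← QuotientGroup.mk_mul, ← QuotientGroup.mk_mul, QuotientGroup.eq,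
              Subgroup.mem_subgroupOf]
            have := hBB _ (inv_mem y.2) _ (inv_mem x.2)
            simpa [commutatorElement_def, mul_assoc] using this }
  have hπeq : ∀ x y : B, π x = π y ↔ (x : G)⁻¹ * y ∈ N := fun x y => QuotientGroup.eq
  have hWne : ∃ b : B, π b ≠ 1 := by
    by_contra h
    simp only [not_exists, not_not] at h
    refine hNne (le_antisymm hNB fun b hb => ?_)
    have := h ⟨b, hb⟩
    rwa [hπ, QuotientGroup.mk'_apply, QuotientGroup.eq_one_iff, Subgroup.mem_subgroupOf] at this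
  have hWp : IsPGroup p (↥B ⧸ N.subgroupOf B) := hBp.to_quotient _
  have hexp : ∀ b : B, π b ^ p = 1 := by
    set f : (↥B ⧸ N.subgroupOf B) →* (↥B ⧸ N.subgroupOf B) := powMonoidHom p with hf
    set K := ((f.range).comap π).map B.subtype with hK
    have hKB : K ≤ B := Subgroup.map_subtype_le _
    have hmem : ∀ b : B, (b : G) ∈ K ↔ π b ∈ f.range := fun b => by
      rw [hK]
      exact Subgroup.mem_map_iff_mem (f := B.subtype) B.subtype_injective
    have hYK : Y ≤ Subgroup.normalizer (K : Set G) := by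
      intro g hg
      refine mem_normalizer_of_conj_mem fun x hx => ?_
      obtain ⟨b, rfl⟩ : ∃ b : B, (b : G) = x := ⟨⟨x, hKB hx⟩, rfl⟩
      obtain ⟨w, hw⟩ := (hmem b).1 hx
      induction w using QuotientGroup.induction_on with
      | _ c =>
        have hgb := conj_mem_of_mem_normalizer (hYB hg) b.2
        refine (hmem ⟨_, hgb⟩).2 ⟨π ⟨_, conj_mem_of_mem_normalizer (hYB hg) c.2⟩, ?_⟩
        have h1 : π (c ^ p) = π b := by rw [map_pow]; exact hw
        rw [hπeq] at h1
        change π _ ^ p = π _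
        rw [← map_pow, hπeq]
        have h2 := conj_mem_of_mem_normalizer (hYN hg) h1
        have e1 : ((g * (c : G) * g⁻¹) ^ p)⁻¹ * (g * (b : G) * g⁻¹) =
            g * (((c : G) ^ p)⁻¹ * b) * g⁻¹ := by
          rw [conj_pow]; group
        rw [Subgroup.coe_pow, e1]
        simpa using h2
    intro b
    have hKne : K ≠ B := by
      intro h
      have hsurj : Function.Surjective f := fun w => by
        induction w using QuotientGroup.induction_on with
        | _ c => exact (hmem c).1 (h.ge c.2)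
      have hinj := Finite.injective_iff_surjective.2 hsurj
      obtain ⟨b, hb⟩ := hWne
      obtain ⟨k, hk⟩ := hWp (π b)
      have hall : ∀ k : ℕ, ∀ w : ↥B ⧸ N.subgroupOf B, w ^ p ^ k = 1 → w = 1 := by
        intro k
        induction k with
        | zero => intro w hw; simpa using hw
        | succ k ih =>
          intro w hw
          rw [pow_succ', pow_mul] at hw
          exact hinj (show f w = f 1 by rw [map_one]; exact ih _ hw)
      exact hb (hall k _ hk)
    have h1 : π b ^ p = π (b ^ p) := (map_pow π b p).symm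
    rw [h1, hπ, QuotientGroup.mk'_apply, QuotientGroup.eq_one_iff, Subgroup.mem_subgroupOf]
    exact hleN K hKB hKne hYK ((hmem (b ^ p)).2 ⟨π b, by rw [← h1]; rfl⟩)
  set V := Additive (↥B ⧸ N.subgroupOf B) with hVdef
  have hV : ∀ x : V, p • x = 0 := fun x => by
    obtain ⟨b, hb⟩ := QuotientGroup.mk'_surjective (N.subgroupOf B) x.toMul
    refine Additive.toMul.injective ?_
    rw [toMul_nsmul, ← hb]
    exact hexp b
  -- the action of `Y` on the section
  let conjB : Y → (↥B →* ↥B) := fun y =>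
    { toFun := fun b => ⟨(y : G) * b * (y : G)⁻¹, conj_mem_of_mem_normalizer (hYB y.2) b.2⟩
      map_one' := Subtype.ext (by simp)
      map_mul' := fun b c => Subtype.ext (by simp [mul_assoc]) }
  have hconjN : ∀ y : Y, N.subgroupOf B ≤ (N.subgroupOf B).comap (conjB y) := fun y b hb => by
    rw [Subgroup.mem_comap, Subgroup.mem_subgroupOf]
    exact conj_mem_of_mem_normalizer (hYN y.2) hb
  let ρ : Y →* AddMonoid.End V :=
    { toFun := fun y => MonoidHom.toAdditive (QuotientGroup.map _ _ (conjB y) (hconjN y))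
      map_one' := by
        refine AddMonoidHom.ext fun x => ?_
        obtain ⟨b, hb⟩ := QuotientGroup.mk'_surjective (N.subgroupOf B) x.toMul
        obtain rfl : x = Additive.ofMul (π b) := congrArg Additive.ofMul hb.symm
        change Additive.ofMul (π (conjB 1 b)) = Additive.ofMul (π b)
        congr 2
        exact Subtype.ext (by simp [conjB])
      map_mul' := fun y z => by
        refine AddMonoidHom.ext fun x => ?_
        obtain ⟨b, hb⟩ := QuotientGroup.mk'_surjective (N.subgroupOf B) x.toMul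
        obtain rfl : x = Additive.ofMul (π b) := congrArg Additive.ofMul hb.symm
        change Additive.ofMul (π (conjB (y * z) b)) = Additive.ofMul (π (conjB y (conjB z b)))
        congr 2
        exact Subtype.ext (by simp [conjB, mul_assoc]) }
  have hρ : ∀ (y : Y) (b : B), ρ y (Additive.ofMul (π b)) =
      Additive.ofMul (π ⟨(y : G) * b * (y : G)⁻¹, conj_mem_of_mem_normalizer (hYB y.2) b.2⟩) :=
    fun _ _ => rfl
  have hρQ1 : ∀ y : Y, (y : G) ∈ Q1 → ρ y = 1 := by
    intro y hy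
    refine AddMonoidHom.ext fun x => ?_
    obtain ⟨b, hb⟩ := QuotientGroup.mk'_surjective (N.subgroupOf B) x.toMul
    obtain rfl : x = Additive.ofMul (π b) := congrArg Additive.ofMul hb.symm
    change ρ y (Additive.ofMul (π b)) = Additive.ofMul (π b)
    rw [hρ]
    refine congrArg Additive.ofMul ((hπeq _ _).2 ?_)
    have := hBQ1 (Subgroup.commutator_mem_commutator (inv_mem b.2) hy)
    have := inv_mem this
    simpa [commutatorElement_def, mul_assoc] using this
  have hρeq : ∀ x y : Y, (x : G) * (y : G)⁻¹ ∈ Q1 → ρ x = ρ y := fun x y h => by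
    rw [← inv_mul_cancel_right x y, map_mul, hρQ1 (x * y⁻¹) h, one_mul]
  -- fixed point freeness of all powers of `a ^ (p ^ (e - 1))`
  set a₀ := a ^ p ^ (e - 1) with ha₀
  have ha₀p : a₀ ^ p ∈ H := by
    rwa [ha₀, ← pow_mul, ← pow_succ, Nat.sub_add_cancel he]
  set πQ := QuotientGroup.mk' Q with hπQ
  have hπQc : ∀ x y : G, ⁅x, y⁆ ∈ Q ↔ Commute (πQ x) (πQ y) := fun x y => by
    rw [← commutatorElement_eq_one_iff_commute, ← map_commutatorElement, hπQ,
      QuotientGroup.mk'_apply, QuotientGroup.eq_one_iff]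
  have hfpfi : ∀ i, 0 < i → i < p → ∀ r ∈ R, ⁅a₀ ^ i, r⁆ ∈ Q → r = 1 := by
    intro i hi0 hip r hr hc
    refine hfpf r hr ((hπQc _ _).2 ?_)
    have h1 : Commute (πQ a₀ ^ i) (πQ r) := by rw [← map_pow]; exact (hπQc _ _).1 hc
    have h2 : Commute (πQ a₀ ^ p) (πQ r) := by rw [← map_pow]; exact (hπQc _ _).1 (hHR _ ha₀p r hr)
    have hg : Nat.gcd i p = 1 := by
      rw [Nat.gcd_comm]
      exact (hpf.out.coprime_iff_not_dvd.2 fun h => absurd (Nat.le_of_dvd hi0 h) (by omega))
    have h3 : Commute (πQ a₀ ^ (Nat.gcd i p : ℤ)) (πQ r) := by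
      rw [Nat.gcd_eq_gcd_ab, zpow_add, zpow_mul, zpow_mul, zpow_natCast, zpow_natCast]
      exact (h1.zpow_left _).mul_left (h2.zpow_left _)
    rw [hg, Nat.cast_one, zpow_one] at h3
    exact h3
  set a' : Y := ⟨a, haY⟩ with ha'
  set R' := R.subgroupOf Y with hR'
  have hcardR : (Nat.card R').Coprime p := by
    rwa [hR', Nat.card_congr (Subgroup.subgroupOfEquivOfLe hRY).toEquiv]
  have hψ : ∀ i, 0 < i → i < p → ∃ ψ : R' → R', Function.Injective ψ ∧ ∀ r : R',
      ρ ((r : Y) * ((a' ^ p ^ (e - 1)) ^ i * (r : Y) * ((a' ^ p ^ (e - 1)) ^ i)⁻¹)⁻¹) =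
        ρ (ψ r : Y) := by
    intro i hi0 hip
    have haiQR : a₀ ^ i ∈ Subgroup.normalizer ((Q ⊔ R : Subgroup G) : Set G) :=
      pow_mem (pow_mem haQR _) _
    have hex : ∀ r : R', ∃ s : R', ((r : Y) : G) * (a₀ ^ i * ((r : Y) : G) * (a₀ ^ i)⁻¹)⁻¹ *
        ((s : Y) : G)⁻¹ ∈ Q := by
      intro r
      have hmem : ((r : Y) : G) * (a₀ ^ i * ((r : Y) : G) * (a₀ ^ i)⁻¹)⁻¹ ∈ Q ⊔ R :=
        mul_mem (Subgroup.mem_sup_right r.2)
          (inv_mem (conj_mem_of_mem_normalizer haiQR (Subgroup.mem_sup_right r.2)))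
      obtain ⟨q, hq, s, hs, hqs⟩ := Subgroup.mem_sup_of_normal_left.1 hmem
      refine ⟨⟨⟨s, hRY hs⟩, hs⟩, ?_⟩
      rw [← hqs]
      simpa using hq
    choose ψ hψQ using hex
    refine ⟨ψ, fun r s hrs => ?_, fun r => ?_⟩
    · have hr := hψQ r
      have hs := hψQ s
      rw [hrs] at hr
      have h1 : πQ (((r : Y) : G) * (a₀ ^ i * ((r : Y) : G) * (a₀ ^ i)⁻¹)⁻¹) =
          πQ (((s : Y) : G) * (a₀ ^ i * ((s : Y) : G) * (a₀ ^ i)⁻¹)⁻¹) := by
        rw [hπQ, QuotientGroup.mk'_apply, QuotientGroup.mk'_apply]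
        have := QuotientGroup.eq_iff_div_mem (N := Q)
          (x := ((r : Y) : G) * (a₀ ^ i * ((r : Y) : G) * (a₀ ^ i)⁻¹)⁻¹)
          (y := ((s : Y) : G) * (a₀ ^ i * ((s : Y) : G) * (a₀ ^ i)⁻¹)⁻¹)
        rw [this, div_eq_mul_inv]
        have h3 := mul_mem hr (inv_mem hs)
        simpa [mul_assoc] using h3
      have h2 : ((s : Y) : G)⁻¹ * ((r : Y) : G) = 1 := by
        refine hfpfi i hi0 hip _ (mul_mem (inv_mem s.2) r.2) ((hπQc _ _).2 ?_)
        simp only [map_mul, map_inv] at h1 ⊢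
        set x := πQ (a₀ ^ i)
        set u := πQ ((r : Y) : G)
        set v := πQ ((s : Y) : G)
        show x * (v⁻¹ * u) = v⁻¹ * u * x
        calc x * (v⁻¹ * u) = v⁻¹ * (v * (x * v * x⁻¹)⁻¹) * x * u := by group
          _ = v⁻¹ * (u * (x * u * x⁻¹)⁻¹) * x * u := by rw [h1]
          _ = v⁻¹ * u * x := by group
      exact Subtype.ext (Subtype.ext (inv_mul_eq_one.1 h2).symm)
    · exact hρeq _ _ (Subgroup.mem_sup_left (hψQ r))
  have hne : ∃ r ∈ R', ρ r ≠ 1 := by
    by_contra h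
    simp only [not_exists, not_and, not_not] at h
    refine hBR N hRN (Subgroup.commutator_le.2 fun b hb r hr => ?_)
    have h1 := DFunLike.congr_fun (h ⟨r, hRY hr⟩ hr) (Additive.ofMul (π ⟨b, hb⟩))
    rw [hρ] at h1
    have h2 : π ⟨r * b * r⁻¹, conj_mem_of_mem_normalizer (hRnB hr) hb⟩ = π ⟨b, hb⟩ :=
      congrArg Additive.toMul h1
    rw [hπeq] at h2
    change (r * b * r⁻¹)⁻¹ * b ∈ N at h2
    have h3 : ⁅b, r⁆ = b * ((r * b * r⁻¹)⁻¹ * b) * b⁻¹ := by rw [commutatorElement_def]; group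
    rw [h3]
    exact conj_mem_of_mem_normalizer (hYN (hBY hb)) h2
  obtain ⟨w, hw⟩ := exists_pow_sub_one_apply_ne_zero hV ρ a' R' hcardR hψ hne
  obtain ⟨z, hz⟩ := QuotientGroup.mk'_surjective (N.subgroupOf B) w.toMul
  have hwz : w = Additive.ofMul (π z) := congrArg Additive.ofMul hz.symm
  -- the chain
  set ν := p ^ (e - 1) * (p - 1) with hν
  let u : V →+ V := (ρ a' - 1 : AddMonoid.End V)
  have hupow : ∀ n : ℕ, ∀ x : V, ((ρ a' - 1) ^ n) x = (⇑u)^[n] x := by
    intro n
    induction n with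
    | zero => exact fun x => rfl
    | succ n ih =>
      intro x
      rw [pow_succ', Function.iterate_succ_apply', ← ih]
      rfl
  rw [hupow] at hw
  set step : G → G := fun y => y⁻¹ * (a * y * a⁻¹) with hstep
  set v : ℕ → G := fun i => step^[i] (z : G) with hvdef
  have hvs : ∀ i, v (i + 1) = (v i)⁻¹ * (a * v i * a⁻¹) := fun i =>
    Function.iterate_succ_apply' step i _
  have hvB : ∀ i, v i ∈ B := by
    intro i
    induction i with
    | zero => exact z.2
    | succ i ih => rw [hvs]; exact mul_mem (inv_mem ih) (conj_mem_of_mem_normalizer (hYB haY) ih)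
  have hconj : ∀ i, a * v i * a⁻¹ = v i * v (i + 1) := fun i => by rw [hvs, mul_inv_cancel_left]
  have hvπ : ∀ i, Additive.ofMul (π ⟨v i, hvB i⟩) = (⇑u)^[i] w := by
    intro i
    induction i with
    | zero => rw [hwz]; rfl
    | succ i ih =>
      rw [Function.iterate_succ_apply', ← ih]
      change _ = ρ a' (Additive.ofMul (π ⟨v i, hvB i⟩)) - Additive.ofMul (π ⟨v i, hvB i⟩)
      rw [hρ, ← ofMul_div, ← map_div]
      refine congrArg Additive.ofMul ((hπeq _ _).2 ?_)
      rw [div_eq_mul_inv]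
      have hc := hBB _ (inv_mem (hvB (i + 1))) _ (hvB i)
      change (v (i + 1))⁻¹ * (a * v i * a⁻¹ * (v i)⁻¹) ∈ N
      rw [hconj]
      simpa [commutatorElement_def, mul_assoc] using hc
  have hzeroN : ∀ i, (⇑u)^[i] w = 0 → v i ∈ N := fun i h => by
    have h1 : π ⟨v i, hvB i⟩ = 1 := congrArg Additive.toMul ((hvπ i).trans h)
    rwa [hπ, QuotientGroup.mk'_apply, QuotientGroup.eq_one_iff, Subgroup.mem_subgroupOf] at h1
  have hex : ∃ n, (⇑u)^[n] w = 0 := by
    obtain ⟨n, hn⟩ := exists_iterate_eq_one hSnil (hAS ha) (hBS z.2)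
    refine ⟨n, ?_⟩
    rw [← hvπ]
    have : (⟨v n, hvB n⟩ : B) = 1 := Subtype.ext hn
    rw [this, map_one, ofMul_one]
  set n₁ := Nat.find hex with hn₁
  have hn₁0 : (⇑u)^[n₁] w = 0 := Nat.find_spec hex
  have hνn : ν < n₁ := by
    by_contra h
    exact hw (by rw [← Nat.sub_add_cancel (not_lt.1 h), Function.iterate_add_apply, hn₁0,
      iterate_map_zero])
  obtain ⟨l, hl⟩ : ∃ l, n₁ = l + 1 := ⟨n₁ - 1, by omega⟩
  have hl0 : (⇑u)^[l] w ≠ 0 := fun h => by
    have := Nat.find_min' hex h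
    omega
  rw [hl] at hn₁0
  have hvN : ∀ i, l < i → v i ∈ N := fun i hi => hzeroN i (by
    rw [← Nat.sub_add_cancel (hi : l + 1 ≤ i), Function.iterate_add_apply, hn₁0, iterate_map_zero])
  -- the commutator subgroup of `B`
  set D : Subgroup G := ⁅B, B⁆ with hD
  have hDN : D ≤ N := Subgroup.commutator_le.2 fun x hx y hy => hBB x hx y hy
  have hDS : D ≤ S := hDN.trans (hNB.trans hBS)
  have hDc : IsMulCommutative D :=
    ⟨⟨fun x y => Subtype.ext (hcen y (hDN y.2) x (hNB (hDN x.2)))⟩⟩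
  letI : CommGroup D :=
    { (inferInstance : Group D) with
      mul_comm := fun x y => Subtype.ext (hcen y (hDN y.2) x (hNB (hDN x.2))) }
  have hnb : ∀ n ∈ N, ∀ b ∈ B, b * n * b⁻¹ = n := fun n hn b hb => by
    rw [hcen n hn b hb, mul_inv_cancel_right]
  have hbl : ∀ x ∈ B, ∀ y ∈ B, ∀ t ∈ B, ⁅x * y, t⁆ = ⁅x, t⁆ * ⁅y, t⁆ := fun x hx y hy t ht => by
    rw [show ⁅x * y, t⁆ = x * ⁅y, t⁆ * x⁻¹ * ⁅x, t⁆ by simp [commutatorElement_def, mul_assoc],
      hnb _ (hBB y hy t ht) x hx]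
    exact (hcen _ (hBB y hy t ht) _ (hNB (hBB x hx t ht))).symm
  have hbr : ∀ x ∈ B, ∀ y ∈ B, ∀ t ∈ B, ⁅t, x * y⁆ = ⁅t, x⁆ * ⁅t, y⁆ := fun x hx y hy t ht => by
    rw [show ⁅t, x * y⁆ = ⁅t, x⁆ * (x * ⁅t, y⁆ * x⁻¹) by simp [commutatorElement_def, mul_assoc],
      hnb _ (hBB t ht y hy) x hx]
  have hYD : Y ≤ Subgroup.normalizer (D : Set G) := le_normalizer_commutator_of_le hYB hYB
  have hHD : H ≤ Subgroup.centralizer (D : Set G) := by
    rw [Subgroup.le_centralizer_iff]
    refine Subgroup.commutator_le.2 fun x hx y hy => Subgroup.mem_centralizer_iff.2 fun h hh => ?_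
    have key : ∀ b ∈ B, ∃ n ∈ N, h * b * h⁻¹ = b * n := fun b hb => by
      refine ⟨b⁻¹ * (h * b * h⁻¹), ?_, by rw [mul_inv_cancel_left]⟩
      have := hBQ1 (Subgroup.commutator_mem_commutator (inv_mem hb) (Subgroup.mem_sup_right hh))
      simpa [commutatorElement_def, mul_assoc] using this
    obtain ⟨n, hn, hxn⟩ := key x hx
    obtain ⟨m, hm, hym⟩ := key y hy
    have hone : ∀ n ∈ N, ∀ b ∈ B, ⁅n, b⁆ = 1 := fun n hn b hb =>
      commutatorElement_eq_one_iff_mul_comm.2 (hcen n hn b hb).symm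
    have hone' : ∀ n ∈ N, ∀ b ∈ B, ⁅b, n⁆ = 1 := fun n hn b hb =>
      commutatorElement_eq_one_iff_mul_comm.2 (hcen n hn b hb)
    have h2 : h * ⁅x, y⁆ * h⁻¹ = ⁅x, y⁆ := by
      rw [conjugate_commutatorElement, hxn, hym, hbl x hx n (hNB hn) _ (mul_mem hy (hNB hm)),
        hone n hn _ (mul_mem hy (hNB hm)), mul_one, hbr y hy m (hNB hm) x hx, hone' m hm x hx,
        mul_one]
    exact (mul_inv_eq_iff_eq_mul.1 h2)
  let γ : ℕ → ℕ → Additive D := fun i j =>
    Additive.ofMul ⟨⁅v i, v j⁆, Subgroup.commutator_mem_commutator (hvB i) (hvB j)⟩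
  let uD : Additive D →+ Additive D := MonoidHom.toAdditive
    { toFun := fun d => ⟨(d : G)⁻¹ * (a * d * a⁻¹),
        mul_mem (inv_mem d.2) (conj_mem_of_mem_normalizer (hYD haY) d.2)⟩
      map_one' := Subtype.ext (by simp)
      map_mul' := fun c d => Subtype.ext (by
        simp only [Subgroup.coe_mul]
        rw [hcen _ (hDN d.2) _ (hNB (hDN c.2))]
        rw [show ((d : G) * c)⁻¹ * (a * (d * c) * a⁻¹) =
          (c : G)⁻¹ * ((d : G)⁻¹ * (a * d * a⁻¹)) * (a * c * a⁻¹) by group]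
        have hmem : (d : G)⁻¹ * (a * d * a⁻¹) ∈ N :=
          mul_mem (inv_mem (hDN d.2)) (conj_mem_of_mem_normalizer (hYN haY) (hDN d.2))
        have hac : a * (c : G) * a⁻¹ ∈ B := conj_mem_of_mem_normalizer (hYB haY) (hNB (hDN c.2))
        rw [mul_assoc (c : G)⁻¹, ← hcen _ hmem _ hac, ← mul_assoc]) }
  have hrel : ∀ i j, uD (γ i j) = γ (i + 1) j + γ i (j + 1) + γ (i + 1) (j + 1) := by
    intro i j
    refine Additive.toMul.injective (Subtype.ext ?_)
    change ⁅v i, v j⁆⁻¹ * (a * ⁅v i, v j⁆ * a⁻¹) =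
      ⁅v (i + 1), v j⁆ * ⁅v i, v (j + 1)⁆ * ⁅v (i + 1), v (j + 1)⁆
    rw [conjugate_commutatorElement, hconj, hconj,
      hbl _ (hvB i) _ (hvB (i + 1)) _ (mul_mem (hvB j) (hvB (j + 1))),
      hbr _ (hvB j) _ (hvB (j + 1)) _ (hvB i), hbr _ (hvB j) _ (hvB (j + 1)) _ (hvB (i + 1))]
    have hc1 := hcen _ (hBB _ (hvB i) _ (hvB (j + 1))) _ (hNB (hBB _ (hvB (i + 1)) _ (hvB j)))
    rw [show ⁅v i, v j⁆ * ⁅v i, v (j + 1)⁆ * (⁅v (i + 1), v j⁆ * ⁅v (i + 1), v (j + 1)⁆) =
      ⁅v i, v j⁆ * (⁅v i, v (j + 1)⁆ * ⁅v (i + 1), v j⁆) * ⁅v (i + 1), v (j + 1)⁆ by group, ← hc1]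
    group
  have hzero : ∀ x y, (x ∈ N ∧ y ∈ B) ∨ (x ∈ B ∧ y ∈ N) → ⁅x, y⁆ = (1 : G) := by
    rintro x y (⟨hx, hy⟩ | ⟨hx, hy⟩)
    · exact commutatorElement_eq_one_iff_mul_comm.2 (hcen x hx y hy).symm
    · exact commutatorElement_eq_one_iff_mul_comm.2 (hcen y hy x hx)
  have hγi : ∀ i j, l < i → γ i j = 0 := fun i j hi =>
    Additive.toMul.injective (Subtype.ext (hzero _ _ (Or.inl ⟨hvN i hi, hvB j⟩)))
  have hγj : ∀ i j, l < j → γ i j = 0 := fun i j hj =>
    Additive.toMul.injective (Subtype.ext (hzero _ _ (Or.inr ⟨hvB i, hvN j hj⟩)))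
  have hγd : ∀ i, γ i i = 0 := fun i =>
    Additive.toMul.injective (Subtype.ext (commutatorElement_self (v i)))
  -- the order of `A`
  have hmodk : ∀ k : ℕ, ∀ h ∈ H, ∃ h' ∈ H, h * a ^ k = h' * a ^ (k % p ^ e) := fun k h hh =>
    ⟨h * (a ^ p ^ e) ^ (k / p ^ e), mul_mem hh (pow_mem hae _), by
      conv_lhs => rw [← Nat.mod_add_div k (p ^ e), add_comm, pow_add, pow_mul, ← mul_assoc]⟩
  have hcardA : Nat.card A ≤ p ^ e * Nat.card H := by
    have hall : ∀ x : A, ∃ k : Fin (p ^ e), ∃ h : H, (x : G) = h * a ^ (k : ℕ) := by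
      intro x
      obtain ⟨k, h, hh, hx⟩ := hgen x x.2
      obtain ⟨h', hh', he'⟩ := hmodk k h hh
      exact ⟨⟨k % p ^ e, Nat.mod_lt _ (pow_pos hpf.out.pos e)⟩, ⟨h', hh'⟩, hx.trans he'⟩
    choose k h hkh using hall
    have := Nat.card_le_card_of_injective (fun x => (k x, h x)) fun x y hxy => by
      simp only [Prod.mk.injEq] at hxy
      exact Subtype.ext (by rw [hkh x, hkh y, hxy.1, hxy.2])
    rwa [Nat.card_prod, Nat.card_fin] at this
  -- `u` is nilpotent of index at most `e + 1` on `D`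
  have hnilD : ∀ x, (⇑uD)^[e + 1] x = 0 := by
    obtain ⟨n, hn⟩ := IsPGroup.iff_card.1 (hS.to_le hDS)
    refine iterate_succ_eq_zero (M := Additive D) (n := n) hn uD ?_
      (Subgroup.toAddSubgroup (H.subgroupOf D)) ?_ ?_
    · intro x
      obtain ⟨k, hk⟩ := exists_iterate_eq_one hSnil (hAS ha) (hDS x.toMul.2)
      refine ⟨k, Additive.toMul.injective (Subtype.ext ?_)⟩
      have key : ∀ (m : ℕ) (y : Additive D),
          ((((⇑uD)^[m] y).toMul : D) : G) = step^[m] ((y.toMul : D) : G) := by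
        intro m
        induction m with
        | zero => exact fun y => rfl
        | succ m ih =>
          intro y
          rw [Function.iterate_succ_apply', Function.iterate_succ_apply', ← ih]
          rfl
      rw [key]
      exact hk
    · intro x hx
      refine Additive.toMul.injective (Subtype.ext ?_)
      change ((x.toMul : D) : G)⁻¹ * (a * (x.toMul : D) * a⁻¹) = 1
      have hxa : ((x.toMul : D) : G) * a = a * ((x.toMul : D) : G) :=
        CfsgLib.PLocal.comm_of_mem hAc (hHA hx) ha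
      rw [← hxa, mul_inv_cancel_right, inv_mul_cancel]
    · have hcH : IsMulCommutative H := isMulCommutative_of_le_centralizer
        ((hHA.trans (le_centralizer_of_isMulCommutative hAc)).trans
          (Subgroup.centralizer_le (SetLike.coe_subset_coe.2 hHA)))
      have hab : IsMulCommutative ↥(H ⊔ D) := isMulCommutative_sup hcH hDc hHD
      have h1 := CfsgLib.Coprime.card_sup_mul_card_inf (H := H) (N := D) (hHY.trans hYD)
      have h2 := hAmax _ (sup_le (hHA.trans hAS) hDS) hab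
      have h3 : Nat.card ↥(H ⊓ D) = Nat.card ↥(H.subgroupOf D) :=
        (Nat.card_congr
          ((Subgroup.subgroupOfEquivOfLe (inf_le_right : H ⊓ D ≤ D)).symm.toEquiv)).trans
          (by rw [Subgroup.inf_subgroupOf_right])
      rw [h3] at h1
      have h4 : Nat.card H * Nat.card D ≤ Nat.card H * (p ^ e * Nat.card ↥(H.subgroupOf D)) := by
        rw [← h1, ← mul_assoc, mul_comm (Nat.card H)]
        exact Nat.mul_le_mul_right _ (h2.trans hcardA)
      exact Nat.le_of_mul_le_mul_left h4 Nat.card_pos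
  obtain ⟨J, hJ1, hJl, hγ0⟩ := exists_threshold hrel hγi hγj hγd hnilD he
    (three_mul_add_two_le hp he (by
      have : ν ≤ l := by omega
      exact this))
  -- the abelian subgroup `L` and the element `z'`
  set z' := v (J - 1) with hz'
  set L := Subgroup.closure ({x | ∃ i, J ≤ i ∧ x = v i} ∪ (N : Set G)) with hL
  have hvL : ∀ i, J ≤ i → v i ∈ L := fun i hi => Subgroup.subset_closure (Or.inl ⟨i, hi, rfl⟩)
  have hNL : N ≤ L := fun x hx => Subgroup.subset_closure (Or.inr hx)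
  have hgenB : ({x | ∃ i, J ≤ i ∧ x = v i} ∪ (N : Set G)) ⊆ (B : Set G) := by
    rintro _ (⟨i, -, rfl⟩ | hx)
    · exact hvB i
    · exact hNB hx
  have hLB : L ≤ B := (Subgroup.closure_le _).2 hgenB
  have hcomm : ∀ i j, J ≤ i → J ≤ j → Commute (v i) (v j) := by
    have aux : ∀ i j, J ≤ i → i < j → Commute (v i) (v j) := fun i j hi hij =>
      commutatorElement_eq_one_iff_commute.1
        (congrArg (fun x : Additive D => ((x.toMul : D) : G)) (hγ0 i j hi hij))
    intro i j hi hj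
    rcases lt_trichotomy i j with h | rfl | h
    · exact aux i j hi h
    · exact Commute.refl _
    · exact (aux j i hj h).symm
  have hgencomm : ∀ x ∈ ({x | ∃ i, J ≤ i ∧ x = v i} ∪ (N : Set G)),
      ∀ y ∈ ({x | ∃ i, J ≤ i ∧ x = v i} ∪ (N : Set G)), x * y = y * x := by
    rintro _ (⟨i, hi, rfl⟩ | hx) y hy
    · rcases hy with ⟨j, hj, rfl⟩ | hy
      · exact hcomm i j hi hj
      · exact hcen _ hy _ (hvB i)
    · exact (hcen _ hx _ (hgenB hy)).symm
  have hLc : L ≤ Subgroup.centralizer (L : Set G) := by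
    rw [hL, Subgroup.closure_le]
    intro x hx
    rw [Subgroup.centralizer_closure]
    exact Subgroup.mem_centralizer_iff.2 fun y hy => hgencomm y hy x hx
  have hYnL : ∀ g : G, (∀ i, J ≤ i → g * v i * g⁻¹ ∈ L) → g ∈ Y →
      g ∈ Subgroup.normalizer (L : Set G) := by
    intro g hgi hgY
    refine mem_normalizer_of_conj_mem fun x hx => ?_
    have hle : L ≤ L.comap (MulAut.conj g).toMonoidHom := (Subgroup.closure_le _).2 (by
      rintro _ (⟨i, hi, rfl⟩ | hx)
      · exact hgi i hi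
      · exact hNL (conj_mem_of_mem_normalizer (hYN hgY) hx))
    exact hle hx
  have haL : a ∈ Subgroup.normalizer (L : Set G) := hYnL a (fun i hi => by
    rw [hconj]; exact mul_mem (hvL i hi) (hvL (i + 1) (by omega))) haY
  have hHL : H ≤ Subgroup.normalizer (L : Set G) := fun h hh => hYnL h (fun i hi => by
    rw [← mul_inv_cancel_left (v i) (h * v i * h⁻¹)]
    refine mul_mem (hvL i hi) (hNL ?_)
    have := hBQ1 (Subgroup.commutator_mem_commutator (inv_mem (hvB i)) (Subgroup.mem_sup_right hh))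
    simpa [commutatorElement_def, mul_assoc] using this) (hHY hh)
  set c : G → G := fun x => z'⁻¹ * (x * z' * x⁻¹) with hcdef
  have hcoc : ∀ x y, c (x * y) = c x * (x * c y * x⁻¹) := fun x y => by simp only [hcdef]; group
  have hca : c a = v J := by
    have := hvs (J - 1)
    rw [Nat.sub_add_cancel hJ1] at this
    exact this.symm
  let T : Subgroup G :=
    { carrier := {x | x ∈ Subgroup.normalizer (L : Set G) ∧ c x ∈ L}
      one_mem' := ⟨one_mem _, by simp [hcdef]⟩
      mul_mem' := fun {x y} hx hy => ⟨mul_mem hx.1 hy.1, by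
        rw [hcoc]; exact mul_mem hx.2 (conj_mem_of_mem_normalizer hx.1 hy.2)⟩
      inv_mem' := fun {x} hx => ⟨inv_mem hx.1, by
        have := conj_mem_of_mem_normalizer (inv_mem hx.1) (inv_mem hx.2)
        simpa [hcdef, mul_assoc] using this⟩ }
  have hAT : A ≤ T := by
    intro x hx
    obtain ⟨k, h, hh, rfl⟩ := hgen x hx
    refine mul_mem ?_ (pow_mem (show a ∈ T from ⟨haL, hca ▸ hvL J le_rfl⟩) k)
    refine ⟨hHL hh, hNL ?_⟩
    have := hBQ1 (Subgroup.commutator_mem_commutator (inv_mem (hvB (J - 1)))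
      (Subgroup.mem_sup_right hh))
    simpa [hcdef, hz', commutatorElement_def, mul_assoc] using this
  -- the subgroup `U = [z', A]`
  set U := Subgroup.closure (c '' (A : Set G)) with hU
  have hcU : ∀ x ∈ A, c x ∈ U := fun x hx => Subgroup.subset_closure ⟨x, hx, rfl⟩
  have hUL : U ≤ L := (Subgroup.closure_le _).2 (by
    rintro _ ⟨x, hx, rfl⟩
    exact (hAT hx).2)
  have hUB : U ≤ B := hUL.trans hLB
  have hUc : ∀ x ∈ U, ∀ y ∈ U, x * y = y * x := fun x hx y hy => (hLc (hUL hy)) x (hUL hx)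
  have hAU : A ≤ Subgroup.normalizer (U : Set G) := by
    intro t ht
    refine mem_normalizer_of_conj_mem fun x hx => ?_
    have hle : U ≤ U.comap (MulAut.conj t).toMonoidHom := (Subgroup.closure_le _).2 (by
      rintro _ ⟨s, hs, rfl⟩
      change t * c s * t⁻¹ ∈ U
      have : t * c s * t⁻¹ = (c t)⁻¹ * c (t * s) := by rw [hcoc, inv_mul_cancel_left]
      rw [this]
      exact mul_mem (inv_mem (hcU t ht)) (hcU _ (mul_mem ht hs)))
    exact hle hx
  set CA := A ⊓ Subgroup.centralizer (U : Set G) with hCA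
  set F := (A ⊓ U).subgroupOf U with hF
  have hcard1 : Nat.card CA * Nat.card U ≤ Nat.card A * Nat.card ↥(A ⊓ U) := by
    have hUc' : IsMulCommutative U :=
      isMulCommutative_of_le_centralizer fun x hx => Subgroup.mem_centralizer_iff.2
        fun y hy => hUc y hy x hx
    have hCc : IsMulCommutative CA := isMulCommutative_of_le_centralizer
      ((inf_le_left.trans (le_centralizer_of_isMulCommutative hAc)).trans
        (Subgroup.centralizer_le (SetLike.coe_subset_coe.2 inf_le_left)))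
    have hab : IsMulCommutative ↥(CA ⊔ U) := isMulCommutative_sup hCc hUc' inf_le_right
    have h1 := CfsgLib.Coprime.card_sup_mul_card_inf (H := CA) (N := U) (inf_le_left.trans hAU)
    rw [← h1]
    exact Nat.mul_le_mul (hAmax _ (sup_le (inf_le_left.trans hAS) (hUB.trans hBS)) hab)
      (Subgroup.card_le_of_le (inf_le_inf_right U inf_le_left))
  -- every class of `U / (A ∩ U)` contains some `c x`
  let κ : A → U ⧸ F := fun x => QuotientGroup.mk ⟨c x, hcU x x.2⟩
  have hfib : ∀ x y : A, κ x = κ y → ((x : G)⁻¹ * y) ∈ CA := by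
    intro x y hxy
    rw [QuotientGroup.eq, hF, Subgroup.mem_subgroupOf] at hxy
    set s : G := (x : G)⁻¹ * y with hs
    have hsA : s ∈ A := mul_mem (inv_mem x.2) y.2
    change (c x)⁻¹ * c y ∈ A ⊓ U at hxy
    have hy : (y : G) = x * s := by rw [hs, mul_inv_cancel_left]
    rw [hy, hcoc, inv_mul_cancel_left] at hxy
    have hcs : c s ∈ A := by
      have h1 : (x : G)⁻¹ * ((x : G) * c s * (x : G)⁻¹) * (x : G) ∈ A :=
        mul_mem (mul_mem (inv_mem x.2) hxy.1) x.2
      rwa [show (x : G)⁻¹ * ((x : G) * c s * (x : G)⁻¹) * (x : G) = c s by group] at h1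
    refine ⟨hsA, ?_⟩
    show s ∈ Subgroup.centralizer (U : Set G)
    rw [hU, Subgroup.centralizer_closure, Subgroup.mem_centralizer_iff]
    rintro _ ⟨t, ht, rfl⟩
    have h1 : c (s * t) = c (t * s) := by rw [CfsgLib.PLocal.comm_of_mem hAc hsA ht]
    rw [hcoc s t, hcoc t s, show t * c s * t⁻¹ = c s by
      rw [CfsgLib.PLocal.comm_of_mem hAc ht hcs, mul_inv_cancel_right],
      hUc _ (hcU t ht) _ (hcU s hsA)] at h1
    exact (mul_inv_eq_iff_eq_mul.1 (mul_left_cancel h1)).symm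
  have hsurj : Function.Surjective κ := by
    have hle : Nat.card A ≤ Nat.card (Set.range κ) * Nat.card CA := by
      have hr : ∀ x : A, ((Set.rangeSplitting κ ⟨κ x, x, rfl⟩ : A) : G)⁻¹ * x ∈ CA := fun x =>
        hfib _ _ (Set.apply_rangeSplitting κ _)
      have := Nat.card_le_card_of_injective
        (fun x : A => ((⟨κ x, x, rfl⟩ : Set.range κ), (⟨_, hr x⟩ : CA))) fun x y hxy => by
          simp only [Prod.mk.injEq, Subtype.mk.injEq] at hxy
          obtain ⟨h1, h2⟩ := hxy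
          rw [h1] at h2
          exact Subtype.ext (mul_left_cancel h2)
      rwa [Nat.card_prod] at this
    have hU2 : Nat.card U = Nat.card (U ⧸ F) * Nat.card ↥(A ⊓ U) := by
      rw [Subgroup.card_eq_card_quotient_mul_card_subgroup F, hF,
        Nat.card_congr (Subgroup.subgroupOfEquivOfLe (inf_le_right : A ⊓ U ≤ U)).toEquiv]
    have h2 : Nat.card (U ⧸ F) ≤ Nat.card (Set.range κ) := by
      refine Nat.le_of_mul_le_mul_right ?_ (Nat.mul_pos
        (Nat.card_pos (α := CA)) (Nat.card_pos (α := ↥(A ⊓ U))))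
      calc Nat.card (U ⧸ F) * (Nat.card CA * Nat.card ↥(A ⊓ U)) = Nat.card CA * Nat.card U := by
            rw [hU2]; ring
        _ ≤ Nat.card A * Nat.card ↥(A ⊓ U) := hcard1
        _ ≤ Nat.card (Set.range κ) * Nat.card CA * Nat.card ↥(A ⊓ U) :=
            Nat.mul_le_mul_right _ hle
        _ = _ := by ring
    intro q
    have h3 : Set.range κ = Set.univ := Set.eq_of_subset_of_ncard_le (Set.subset_univ _) (by
      rwa [Set.ncard_univ, ← Nat.card_coe_set_eq])
    exact h3.ge (Set.mem_univ q)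
  -- the image of `U` in the section
  set Lt := AddSubgroup.closure {x | ∃ j, J ≤ j ∧ x = (⇑u)^[j] w} with hLt
  have hLπ : ∀ b : B, (b : G) ∈ L → Additive.ofMul (π b) ∈ Lt := by
    let L₀ : Subgroup B := ((AddSubgroup.toSubgroup Lt).comap π)
    have hle : L ≤ L₀.map B.subtype := (Subgroup.closure_le _).2 (by
      rintro _ (⟨i, hi, rfl⟩ | hx)
      · refine ⟨⟨v i, hvB i⟩, ?_, rfl⟩
        change Additive.ofMul (π ⟨v i, hvB i⟩) ∈ Lt
        rw [hvπ]
        exact AddSubgroup.subset_closure ⟨i, hi, rfl⟩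
      · refine ⟨⟨_, hNB hx⟩, ?_, rfl⟩
        change Additive.ofMul (π ⟨_, hNB hx⟩) ∈ Lt
        rw [show π ⟨_, hNB hx⟩ = 1 from (QuotientGroup.eq_one_iff (N := N.subgroupOf B) _).2
          (show (⟨_, hNB hx⟩ : B) ∈ N.subgroupOf B from hx), ofMul_one]
        exact zero_mem _)
    intro b hb
    obtain ⟨b', hb', e'⟩ := hle hb
    rw [← B.subtype_injective e']
    exact hb'
  set PU : AddSubgroup V := Subgroup.toAddSubgroup ((U.subgroupOf B).map π) with hPU
  have hLtPU : Lt ≤ PU := by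
    rw [hLt, AddSubgroup.closure_le]
    rintro _ ⟨j, hj, rfl⟩
    induction j, hj using Nat.le_induction with
    | base =>
      rw [← hvπ]
      exact ⟨⟨v J, hvB J⟩, show v J ∈ U from hca ▸ hcU a ha, rfl⟩
    | succ j hj ih =>
      obtain ⟨b, hb, hbe⟩ := ih
      rw [Function.iterate_succ_apply', show (⇑u)^[j] w = Additive.ofMul (π b) from
        congrArg Additive.ofMul hbe.symm]
      change ρ a' (Additive.ofMul (π b)) - Additive.ofMul (π b) ∈ PU
      refine sub_mem ?_ ⟨b, hb, rfl⟩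
      rw [hρ]
      exact ⟨_, show a * (b : G) * a⁻¹ ∈ U from
        conj_mem_of_mem_normalizer (hAU ha) (hb : (b : G) ∈ U), rfl⟩
  have hcπ : ∀ k : ℕ, ∀ h ∈ H, ∀ (h1 : c (h * a ^ k) ∈ B) (h2 : c (a ^ k) ∈ B),
      π ⟨_, h1⟩ = π ⟨_, h2⟩ := by
    intro k h hh h1 h2
    rw [hπeq]
    change (c (h * a ^ k))⁻¹ * c (a ^ k) ∈ N
    have hy : a ^ k * z' * (a ^ k)⁻¹ ∈ B :=
      conj_mem_of_mem_normalizer (hYB (Y.pow_mem haY k)) (hvB (J - 1))
    have := hBQ1 (Subgroup.commutator_mem_commutator (inv_mem hy) (Subgroup.mem_sup_right hh))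
    have := inv_mem this
    simpa [hcdef, hz', commutatorElement_def, mul_assoc] using this
  have hsplit : ∀ x : PU, ∃ k : Fin (p ^ e), ∃ f : ↥(Lt ⊓ u.ker),
      ∃ hk : c (a ^ (k : ℕ)) ∈ B, (x : V) = Additive.ofMul (π ⟨_, hk⟩) + f := by
    rintro ⟨x, b, hb, hbx⟩
    obtain ⟨y, hy⟩ := hsurj (QuotientGroup.mk ⟨(b : G), hb⟩)
    rw [QuotientGroup.eq, hF, Subgroup.mem_subgroupOf] at hy
    obtain ⟨k, h, hh, hyk⟩ := hgen y y.2
    obtain ⟨h', hh', he'⟩ := hmodk k h hh
    have hk : c (a ^ (k % p ^ e)) ∈ B := hUB (hcU _ (pow_mem ha _))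
    have hfB : (c y)⁻¹ * (b : G) ∈ B := mul_mem (inv_mem (hUB (hcU _ y.2))) b.2
    refine ⟨⟨k % p ^ e, Nat.mod_lt _ (pow_pos hpf.out.pos e)⟩,
      ⟨Additive.ofMul (π ⟨_, hfB⟩), hLπ _ (hUL (show (c y)⁻¹ * (b : G) ∈ U from hy.2)), ?_⟩, hk, ?_⟩
    · change ρ a' (Additive.ofMul (π ⟨_, hfB⟩)) - Additive.ofMul (π ⟨_, hfB⟩) = 0
      rw [hρ, sub_eq_zero]
      congr 2
      refine Subtype.ext ?_
      change a * ((c y)⁻¹ * (b : G)) * a⁻¹ = (c y)⁻¹ * (b : G)
      rw [CfsgLib.PLocal.comm_of_mem hAc ha (show (c y)⁻¹ * (b : G) ∈ A from hy.1),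
        mul_inv_cancel_right]
    · change x = _
      have hyB : c (h' * a ^ (k % p ^ e)) ∈ B := by
        rw [← he', ← hyk]; exact hUB (hcU _ y.2)
      rw [← hcπ _ h' hh' hyB hk, ← ofMul_mul, ← map_mul]
      refine (congrArg Additive.ofMul hbx.symm).trans (congrArg Additive.ofMul (congrArg π ?_))
      refine Subtype.ext ?_
      change (b : G) = c (h' * a ^ (k % p ^ e)) * ((c y)⁻¹ * (b : G))
      rw [← he', ← hyk, mul_inv_cancel_left]
  have hcardPU : Nat.card PU ≤ p ^ e * Nat.card ↥(Lt ⊓ u.ker) := by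
    choose k f hk hkf using hsplit
    have := Nat.card_le_card_of_injective (fun x => (k x, f x)) fun x y hxy => by
      simp only [Prod.mk.injEq] at hxy
      refine Subtype.ext ?_
      have e1 : ∀ (i j : Fin (p ^ e)) (h1 : c (a ^ (i : ℕ)) ∈ B) (h2 : c (a ^ (j : ℕ)) ∈ B),
          i = j → Additive.ofMul (π ⟨_, h1⟩) = Additive.ofMul (π ⟨_, h2⟩) := by
        rintro i j h1 h2 rfl
        rfl
      rw [hkf x, hkf y, hxy.2, e1 _ _ (hk x) (hk y) hxy.1]
    rwa [Nat.card_prod, Nat.card_fin] at this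
  have hfin : Finite V := Finite.of_equiv _ Additive.ofMul
  obtain ⟨hbig, hker⟩ := card_span_tail hV u w hl0 hn₁0 (i := J) (by omega)
  have h1 : p ^ (l + 1 - J) ≤ p ^ (e + 1) :=
    calc p ^ (l + 1 - J) ≤ Nat.card Lt := hbig
      _ ≤ Nat.card PU := AddSubgroup.card_le_of_le hLtPU
      _ ≤ p ^ e * Nat.card ↥(Lt ⊓ u.ker) := hcardPU
      _ ≤ p ^ e * p := Nat.mul_le_mul_left _ hker
      _ = _ := (pow_succ p e).symm
  have := (Nat.pow_le_pow_iff_right hpf.out.one_lt).1 h1
  omega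

end CfsgLib.LocalEven.JNormComplement
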