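import Cfsg.Agent.Lib.LocalEven.JNormComplement.Steps
import Cfsg.Agent.Lib.LocalEven.JNormComplement.Lines
import Cfsg.Agent.Lib.LocalEven.JNormComplement.Offender
import Cfsg.Agent.Lib.PGroups.UniqueOrderP

/-!
# A normal `p`-complement from `N(J(S)) / C(J(S))` being a `p`-group, `p ≥ 5`
-/

set_option autoImplicit false
set_option linter.style.haveILetI false
set_option linter.unusedSectionVars false

namespace CfsgLib.LocalEven.JNormComplement

open Cfsg CfsgLib.Transfer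
open scoped commutatorElement Pointwise

universe u

/-- The configuration left after all reductions: `G / Q = R ⋊ S/Q` with `S/Q` faithful on the
abelian `q`-group `R` and some abelian subgroup of largest order of `S` outside `Q`. -/
theorem false_of_configuration {p q : ℕ} [hpf : Fact p.Prime] (hp : 5 ≤ p) (hq : q.Prime)
    (hqp : q ≠ p) {G : Type u} [Group G] [Finite G] {S Q : Subgroup G} [hQn : Q.Normal]
    (hS : IsPGroup p S) (hQS : Q ≤ S) {A : Subgroup G} (hA : A ∈ maxAb S)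
    {Rb : Subgroup (G ⧸ Q)} (hRn : Rb.Normal) (hRc : IsMulCommutative Rb)
    (hRq : ∀ r ∈ Rb, r ^ q = 1)
    (hfaith : ∀ x ∈ A, QuotientGroup.mk' Q x ∈ Subgroup.centralizer (Rb : Set (G ⧸ Q)) → x ∈ Q)
    (hAQ : ¬ A ≤ Q)
    (hlift : ∀ b : G, (orderOf b).Coprime p → b ∈ Subgroup.centralizer (Q : Set G) → b = 1) :
    False := by
  classical
  set f := QuotientGroup.mk' Q with hf
  obtain ⟨hAS, hAc, -⟩ := mem_maxAb.1 hA
  set Cb := Subgroup.centralizer ((A.map f : Subgroup (G ⧸ Q)) : Set (G ⧸ Q)) with hCb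
  set F : Subgroup G → Subgroup (G ⧸ Q) :=
    fun K => Rb ⊓ Subgroup.centralizer ((K.map f : Subgroup (G ⧸ Q)) : Set (G ⧸ Q)) with hF
  obtain ⟨H, hHmax⟩ := (Set.toFinite {K : Subgroup G | A ⊓ Q ≤ K ∧ K ≤ A ∧ ¬ F K ≤ Cb}).exists_maximal
    ⟨A ⊓ Q, le_rfl, inf_le_left, fun h => hAQ fun x hx => hfaith x hx (by
      refine Subgroup.mem_centralizer_iff.2 fun r hr => ?_
      have hr' : r ∈ F (A ⊓ Q) := by
        refine ⟨hr, Subgroup.mem_centralizer_iff.2 ?_⟩
        rintro _ ⟨y, hy, rfl⟩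
        rw [show f y = 1 from (QuotientGroup.eq_one_iff y).2 hy.2, one_mul, mul_one]
      exact ((h hr') (f x) ⟨x, hx, rfl⟩).symm)⟩
  obtain ⟨hAQH, hHA, hH⟩ := hHmax.1
  have hbig : ∀ z ∈ A, z ∉ H → ∀ r ∈ F H, f z * r = r * f z → r ∈ Cb := by
    intro z hz hzH r hr hzr
    by_contra hrC
    have hlt : ¬ (H ⊔ Subgroup.zpowers z ≤ H) := fun h =>
      hzH (h (Subgroup.mem_sup_right (Subgroup.mem_zpowers z)))
    refine hlt (hHmax.2 ⟨hAQH.trans le_sup_left, sup_le hHA (Subgroup.zpowers_le.2 hz), fun h => hrC (h ⟨hr.1, ?_⟩)⟩ le_sup_left)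
    change r ∈ Subgroup.centralizer ((H ⊔ Subgroup.zpowers z).map f : Set (G ⧸ Q))
    have hle : (H ⊔ Subgroup.zpowers z).map f ≤ Subgroup.centralizer ({r} : Set (G ⧸ Q)) := by
      rw [Subgroup.map_sup, MonoidHom.map_zpowers]
      refine sup_le (fun y hy => Subgroup.mem_centralizer_singleton_iff.2 (hr.2 y hy))
        (Subgroup.zpowers_le.2 (Subgroup.mem_centralizer_singleton_iff.2 hzr))
    exact Subgroup.mem_centralizer_iff.2 fun y hy =>
      Subgroup.mem_centralizer_singleton_iff.1 (hle hy)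
  -- the action of `A` on `F H`
  have hAF : ∀ x ∈ A, f x ∈ Subgroup.normalizer ((F H : Subgroup (G ⧸ Q)) : Set (G ⧸ Q)) := by
    intro x hx
    refine mem_normalizer_of_conj_mem fun r hr => ⟨hRn.conj_mem r hr.1 (f x), ?_⟩
    refine Subgroup.mem_centralizer_iff.2 ?_
    rintro _ ⟨h, hh, rfl⟩
    have hc : Commute (f x) (f h) := by
      refine Commute.map ?_ f
      exact CfsgLib.PLocal.comm_of_mem hAc hx (hHA hh)
    have hr2 : Commute (f h) r := hr.2 (f h) ⟨h, hh, rfl⟩
    exact ((hc.symm.mul_right hr2).mul_right hc.symm.inv_right).eq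
  letI : CommGroup (F H : Subgroup (G ⧸ Q)) :=
    { (inferInstance : Group (F H : Subgroup (G ⧸ Q))) with
      mul_comm := fun a b => Subtype.ext (CfsgLib.PLocal.comm_of_mem hRc a.2.1 b.2.1) }
  let φ : A →* MulAut (F H : Subgroup (G ⧸ Q)) :=
    { toFun := fun x =>
        { toFun := fun r => ⟨f x * r * (f x)⁻¹, conj_mem_of_mem_normalizer (hAF x x.2) r.2⟩
          invFun := fun r => ⟨(f x)⁻¹ * r * (f x)⁻¹⁻¹,
            conj_mem_of_mem_normalizer (inv_mem (hAF x x.2)) r.2⟩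
          left_inv := fun r => Subtype.ext (by simp [mul_assoc])
          right_inv := fun r => Subtype.ext (by simp [mul_assoc])
          map_mul' := fun r s => Subtype.ext (by simp [mul_assoc]) }
      map_one' := by
        refine MulEquiv.ext fun r => Subtype.ext ?_
        change f (1 : G) * r * (f (1 : G))⁻¹ = r
        simp
      map_mul' := fun x y => by
        refine MulEquiv.ext fun r => Subtype.ext ?_
        change f ((x : G) * y) * r * (f ((x : G) * y))⁻¹ =
          f x * (f y * r * (f y)⁻¹) * (f x)⁻¹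
        simp [mul_assoc] }
  have hφ : ∀ (x : A) (r : (F H : Subgroup (G ⧸ Q))),
      φ x r = r ↔ f x * r = r * f x := fun x r => by
    rw [Subtype.ext_iff]
    exact mul_inv_eq_iff_eq_mul
  -- `A / H` is cyclic
  set H' := H.subgroupOf A with hH'
  haveI : IsMulCommutative A := hAc
  have : H'.Normal := by
    refine ⟨fun n hn g => ?_⟩
    have : g * n * g⁻¹ = n := by
      rw [show g * n = n * g from Subtype.ext (CfsgLib.PLocal.comm_of_mem hAc g.2 n.2),
        mul_inv_cancel_right]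
    rwa [this]
  have hq' : ∀ {r : G ⧸ Q}, r ∈ Rb → r ^ p ∈ Cb → r ∈ Cb := by
    intro r hr hrp
    have hc : (orderOf r).Coprime p := Nat.Coprime.coprime_dvd_left
      (orderOf_dvd_of_pow_eq_one (hRq r hr)) ((Nat.coprime_primes hq hpf.out).2 hqp)
    obtain ⟨m, hm⟩ := exists_pow_eq_self_of_coprime hc.symm
    rw [← hm]
    exact pow_mem hrp m
  have hlines : ∀ x y : A, (x : G) ^ p ∈ H → (y : G) ^ p ∈ H → (x : G) ∉ H →
      (y : G) ∈ H ⊔ Subgroup.zpowers (x : G) := by
    intro x y hxp hyp hx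
    by_contra hy
    refine hH fun r hr => hq' hr.1 ?_
    set W : Subgroup (F H : Subgroup (G ⧸ Q)) := Cb.subgroupOf _ with hW
    have htriv : ∀ h : A, (h : G) ∈ H → ∀ s, φ h s = s := fun h hh s =>
      (hφ h s).2 (s.2.2 (f h) ⟨h, hh, rfl⟩)
    refine pow_mem_of_lines φ (x := x) (y := y)
      (Subtype.ext (CfsgLib.PLocal.comm_of_mem hAc x.2 y.2))
      (htriv (x ^ p) hxp) (htriv (y ^ p) hyp) W
      (fun s hs => (hφ y s).2 ((hs : (s : G ⧸ Q) ∈ Cb) (f y) ⟨y, y.2, rfl⟩)) ?_ ⟨r, hr⟩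
    rintro s (h | ⟨j, h⟩)
    · exact hbig x x.2 hx s s.2 ((hφ x s).1 h)
    · refine hbig _ (mul_mem y.2 (pow_mem x.2 j)) (fun hm => hy ?_) s s.2 ((hφ (y * x ^ j) s).1 h)
      have : (y : G) = (y : G) * (x : G) ^ j * ((x : G) ^ j)⁻¹ := by group
      rw [this]
      exact mul_mem (Subgroup.mem_sup_left hm)
        (inv_mem (pow_mem (Subgroup.mem_sup_right (Subgroup.mem_zpowers _)) j))
  have hAp : IsPGroup p A := hS.to_le hAS
  have hWp : IsPGroup p (A ⧸ H') := hAp.to_quotient H'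
  have hHne : ∃ x : A, (x : G) ∉ H := by
    by_contra h
    simp only [not_exists, not_not] at h
    have : H = A := le_antisymm hHA fun x hx => h ⟨x, hx⟩
    subst this
    exact hH fun r hr => hr.2
  obtain ⟨x₀, hx₀⟩ := hHne
  have hx₀' : (QuotientGroup.mk x₀ : A ⧸ H') ≠ 1 := fun h =>
    hx₀ (Subgroup.mem_subgroupOf.1 ((QuotientGroup.eq_one_iff x₀).1 h))
  have : Nontrivial (A ⧸ H') := ⟨⟨_, _, hx₀'⟩⟩
  obtain ⟨z, hz⟩ : ∃ z : A ⧸ H', orderOf z = p := by
    obtain ⟨n, hn⟩ := IsPGroup.iff_card.1 hWp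
    refine exists_prime_orderOf_dvd_card' p ?_
    rw [hn]
    refine dvd_pow_self p fun h0 => ?_
    rw [h0, pow_zero] at hn
    exact (Finite.one_lt_card (α := A ⧸ H')).ne' hn
  have : IsMulCommutative (A ⧸ H') := ⟨⟨fun a b => by
    induction a using QuotientGroup.induction_on with
    | _ a =>
      induction b using QuotientGroup.induction_on with
      | _ b =>
        rw [← QuotientGroup.mk_mul, ← QuotientGroup.mk_mul,
          show a * b = b * a from Subtype.ext (CfsgLib.PLocal.comm_of_mem hAc a.2 b.2)]⟩⟩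
  have hzp : z ^ p = 1 := hz ▸ pow_orderOf_eq_one z
  have hcyc : IsCyclic (A ⧸ H') := by
    refine CfsgLib.PGroups.isCyclic_of_abelian_of_unique hWp (fun w hw => ?_) hzp
    obtain ⟨x, rfl⟩ := QuotientGroup.mk'_surjective H' z
    obtain ⟨y, rfl⟩ := QuotientGroup.mk'_surjective H' w
    have hmk : ∀ u : A, QuotientGroup.mk' H' u = 1 ↔ (u : G) ∈ H := fun u => by
      rw [QuotientGroup.mk'_apply, QuotientGroup.eq_one_iff, hH', Subgroup.mem_subgroupOf]
    have hx : (x : G) ∉ H := fun h => by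
      rw [(hmk x).2 h, orderOf_one] at hz
      exact hpf.out.ne_one hz.symm
    have h := hlines x y (by rw [← Subgroup.coe_pow, ← hmk, map_pow, hzp])
      (by rw [← Subgroup.coe_pow, ← hmk, map_pow, hw]) hx
    have h' : y ∈ H' ⊔ Subgroup.zpowers x := by
      rw [← Subgroup.mem_map_iff_mem A.subtype_injective, Subgroup.map_sup, hH',
        Subgroup.map_subgroupOf_eq_of_le hHA, MonoidHom.map_zpowers]
      exact h
    have h2 := Subgroup.mem_map_of_mem (QuotientGroup.mk' H') h'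
    rwa [Subgroup.map_sup, QuotientGroup.map_mk'_self, bot_sup_eq, MonoidHom.map_zpowers] at h2
  obtain ⟨g, hg⟩ := hcyc.exists_generator
  obtain ⟨a', rfl⟩ := QuotientGroup.mk'_surjective H' g
  set a : G := (a' : G) with ha
  have haA : a ∈ A := a'.2
  obtain ⟨e, he⟩ := IsPGroup.iff_orderOf.1 hWp (QuotientGroup.mk' H' a')
  have hmk : ∀ u : A, QuotientGroup.mk' H' u = 1 ↔ (u : G) ∈ H := fun u => by
    rw [QuotientGroup.mk'_apply, QuotientGroup.eq_one_iff, hH', Subgroup.mem_subgroupOf]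
  have hae : a ^ p ^ e ∈ H := by
    rw [ha, ← Subgroup.coe_pow, ← hmk, map_pow, ← he, pow_orderOf_eq_one]
  have hgen : ∀ x ∈ A, ∃ k : ℕ, ∃ h ∈ H, x = h * a ^ k := by
    intro x hx
    obtain ⟨k, hk⟩ := (mem_powers_iff_mem_zpowers).2 (hg (QuotientGroup.mk' H' ⟨x, hx⟩))
    refine ⟨k, x * (a ^ k)⁻¹, ?_, by rw [inv_mul_cancel_right]⟩
    have : QuotientGroup.mk' H' (⟨x, hx⟩ * (a' ^ k)⁻¹) = 1 := by
      rw [map_mul, map_inv, map_pow, ← hk, mul_inv_eq_one]
    exact (hmk _).1 this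
  have he0 : 0 < e := by
    refine Nat.pos_of_ne_zero fun h0 => hx₀ ?_
    rw [h0, pow_zero, pow_one] at hae
    obtain ⟨k, h, hh, hk⟩ := hgen x₀ x₀.2
    rw [hk]
    exact mul_mem hh (pow_mem hae k)
  set a₀ := a ^ p ^ (e - 1) with ha₀
  have ha₀H : a₀ ∉ H := by
    rw [ha₀, ha, ← Subgroup.coe_pow, ← hmk, map_pow, ← orderOf_dvd_iff_pow_eq_one, he]
    intro h
    have := (Nat.pow_dvd_pow_iff_le_right hpf.out.one_lt).1 h
    omega
  have ha₀A : a₀ ∈ A := pow_mem haA _
  have ha₀p : a₀ ^ p ∈ H := by rwa [ha₀, ← pow_mul, ← pow_succ, Nat.sub_add_cancel he0]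
  -- the subgroup moved fixed point freely by `a₀`
  let θ : (F H : Subgroup (G ⧸ Q)) →* (F H : Subgroup (G ⧸ Q)) :=
    { toFun := fun r => φ ⟨a₀, ha₀A⟩ r * r⁻¹
      map_one' := by simp
      map_mul' := fun r s => by
        rw [map_mul, mul_inv]
        exact mul_mul_mul_comm _ _ _ _ }
  set R2 := θ.range.map (F H : Subgroup (G ⧸ Q)).subtype with hR2
  have hR2F : R2 ≤ F H := Subgroup.map_subtype_le _
  have hR2ne : R2 ≠ ⊥ := by
    intro h
    refine hH fun r hr => hbig a₀ ha₀A ha₀H r hr ?_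
    have h1 : ((θ ⟨r, hr⟩ : (F H : Subgroup (G ⧸ Q))) : G ⧸ Q) ∈ R2 := ⟨_, ⟨_, rfl⟩, rfl⟩
    rw [h, Subgroup.mem_bot] at h1
    refine (hφ ⟨a₀, ha₀A⟩ ⟨r, hr⟩).1 (mul_inv_eq_one.1 (Subtype.ext h1))
  have hconjR2 : ∀ r ∈ R2, f a * r * (f a)⁻¹ ∈ R2 := by
    rintro _ ⟨_, ⟨r, rfl⟩, rfl⟩
    refine ⟨θ (φ ⟨a, haA⟩ r), ⟨_, rfl⟩, ?_⟩
    have hc : φ ⟨a₀, ha₀A⟩ (φ ⟨a, haA⟩ r) = φ ⟨a, haA⟩ (φ ⟨a₀, ha₀A⟩ r) := by
      rw [← MulAut.mul_apply, ← MulAut.mul_apply, ← map_mul, ← map_mul]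
      congr 2
      exact Subtype.ext (CfsgLib.PLocal.comm_of_mem hAc ha₀A haA)
    change ((φ ⟨a₀, ha₀A⟩ (φ ⟨a, haA⟩ r) * (φ ⟨a, haA⟩ r)⁻¹ : (F H : Subgroup (G ⧸ Q))) : G ⧸ Q) = _
    rw [hc, ← map_inv, ← map_mul]
    rfl
  have hfpf : ∀ r ∈ R2, f a₀ * r = r * f a₀ → r = 1 := by
    rintro _ ⟨_, ⟨r, rfl⟩, rfl⟩ hc
    have h1 : φ ⟨a₀, ha₀A⟩ (θ r) = θ r := (hφ _ _).2 hc
    set ψ := φ ⟨a₀, ha₀A⟩ with hψ
    have h2 : ∀ n : ℕ, (ψ ^ n) r = (θ r) ^ n * r := by
      intro n
      induction n with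
      | zero => simp
      | succ n ih =>
        rw [pow_succ', MulAut.mul_apply, ih, map_mul, map_pow, h1,
          show ψ r = θ r * r from (inv_mul_cancel_right (ψ r) r).symm, ← mul_assoc, ← pow_succ]
    have h3 : (ψ ^ p) r = r := by
      rw [hψ, ← map_pow]
      exact (hφ _ r).2 (r.2.2 (f (a₀ ^ p)) ⟨_, ha₀p, rfl⟩)
    rw [h2 p, mul_eq_right] at h3
    have h4 : ((θ r : (F H : Subgroup (G ⧸ Q))) : G ⧸ Q) ^ p = 1 := congrArg Subtype.val h3
    have h5 := hRq _ (θ r).2.1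
    have h6 := pow_gcd_eq_one.2 ⟨h4, h5⟩
    rw [Nat.gcd_comm, (Nat.coprime_primes hq hpf.out).2 hqp, pow_one] at h6
    exact h6
  -- lift `R2` to `G`
  set P2 := R2.comap f with hP2
  have hQP2 : Q ≤ P2 := fun x hx => by
    rw [hP2, Subgroup.mem_comap, show f x = 1 from (QuotientGroup.eq_one_iff x).2 hx]
    exact one_mem _
  have hrel : Q.relIndex P2 = Nat.card R2 := by
    rw [← CfsgLib.Coprime.card_map_mk', hP2, CfsgLib.Base.map_mk'_comap]
  have hcardR2 : (Nat.card R2).Coprime p := by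
    refine (hpf.out.coprime_iff_not_dvd.2 fun hd => ?_).symm
    obtain ⟨y, hy⟩ := exists_prime_orderOf_dvd_card' (G := R2) p hd
    have := orderOf_dvd_of_pow_eq_one (show y ^ q = 1 from Subtype.ext (hRq _ (hR2F y.2).1))
    rw [hy] at this
    exact hqp ((Nat.prime_dvd_prime_iff_eq hpf.out hq).1 this).symm
  have hQp : IsPGroup p Q := hS.to_le hQS
  obtain ⟨R, hRP2, hRcard, hQR⟩ := CfsgLib.Coprime.exists_complement_in hQP2
    (by rw [Subgroup.normalizer_eq_top (H := Q)]; exact le_top) (by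
      obtain ⟨n, hn⟩ := IsPGroup.iff_card.1 hQp
      rw [hrel, hn]
      exact (hcardR2.pow_right n).symm)
  have hRcop : (Nat.card R).Coprime p := by rw [hRcard, hrel]; exact hcardR2
  have hinf : Q ⊓ R = ⊥ := by
    obtain ⟨n, hn⟩ := IsPGroup.iff_card.1 hQp
    refine CfsgLib.Coprime.inf_eq_bot_of_coprime ?_
    rw [hn]
    exact (hRcop.pow_right n).symm
  refine false_of_offender hp (R := R) hS hA hQS hHA haA he0 hae hgen hRcop ?_ ?_ ?_ ?_
  · intro hc
    have hR1 : R = ⊥ := (Subgroup.eq_bot_iff_forall _).2 fun r hr => hlift r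
      (hRcop.coprime_dvd_left (Subgroup.orderOf_dvd_natCard R hr)) (hc hr)
    rw [hR1, sup_bot_eq] at hQR
    exact hR2ne ((CfsgLib.Base.map_mk'_comap Q R2).symm.trans (CfsgLib.Base.map_mk'_eq_bot_iff.2
      (hP2 ▸ hQR.ge)))
  · intro r hr
    rw [hQR, hP2, Subgroup.mem_comap, map_mul, map_mul, map_inv]
    exact hconjR2 _ (hRP2 hr)
  · intro h hh r hr
    have h1 : Commute (f h) (f r) := (hR2F (hRP2 hr)).2 (f h) ⟨h, hh, rfl⟩
    rw [← QuotientGroup.eq_one_iff, ← QuotientGroup.mk'_apply, map_commutatorElement]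
    exact commutatorElement_eq_one_iff_commute.2 h1
  · intro r hr hc
    rw [← QuotientGroup.eq_one_iff, ← QuotientGroup.mk'_apply, map_commutatorElement,
      commutatorElement_eq_one_iff_commute] at hc
    have h1 : f r = 1 := hfpf _ (hRP2 hr) hc
    have h2 : r ∈ Q ⊓ R := ⟨(QuotientGroup.eq_one_iff r).1 h1, hr⟩
    rwa [hinf, Subgroup.mem_bot] at h2

/-- **Main theorem**, by induction on the order. -/
theorem hasNormalPComplement_of_jHyp_aux {p : ℕ} [hpf : Fact p.Prime] (hp : 5 ≤ p) :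
    ∀ n, ∀ (G : Type u) [Group G] [Finite G], Nat.card G = n → ∀ S : Sylow p G,
      JHyp p (S : Subgroup G) → HasNormalPComplement p G := by
  intro n
  induction n using Nat.strong_induction_on with
  | _ n ih =>
  intro G _ _ hn S hyp
  classical
  by_cases htop : Subgroup.normalizer (jAb (S : Subgroup G) : Set G) = ⊤
  · exact hasNormalPComplement_of_normalizer_eq_top S hyp htop
  -- proper subgroups containing `S`
  have hsub : ∀ H : Subgroup G, (S : Subgroup G) ≤ H → H ≠ ⊤ → HasNormalPComplement p H := by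
    intro H hSH hHne
    refine ih _ ?_ H rfl (S.subtype hSH) (jHyp_subtype S hyp hSH)
    rw [← hn]
    refine lt_of_le_of_ne (Subgroup.card_le_card_group H) fun h => hHne ?_
    exact Subgroup.eq_top_of_card_eq H h
  set J := jAb (S : Subgroup G) with hJ
  have hNnpc : HasNormalPComplement p ↥(Subgroup.normalizer (J : Set G)) :=
    hsub _ (Subgroup.le_normalizer.trans (normalizer_le_normalizer_jAb _)) htop
  set Z := (S : Subgroup G) ⊓ Subgroup.centralizer ((S : Subgroup G) : Set G) with hZ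
  by_cases hCtop : Subgroup.centralizer (Z : Set G) = ⊤
  swap
  · exact hasNormalPComplement_of_jAb S (Or.inl (by omega))
      (hsub _ (Subgroup.le_centralizer_iff.1 inf_le_right) hCtop) hNnpc
  have hSne : (S : Subgroup G) ≠ ⊥ := by
    intro h
    refine htop ?_
    have : jAb (S : Subgroup G) = ⊥ := le_bot_iff.1 ((jAb_le _).trans h.le)
    rw [hJ, this]
    exact Subgroup.normalizer_eq_top _
  -- trivial `O_{p'}`
  by_cases hL : pPrimeCore p G = ⊥
  swap
  · set L := pPrimeCore p G with hLdef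
    have hLp : ¬ p ∣ Nat.card L := CfsgLib.Base.not_dvd_card_pPrimeCore p G
    have hsurj := QuotientGroup.mk'_surjective L
    have hq := jHyp_quotient_pPrime S hyp L hLp
    have hlt : Nat.card (G ⧸ L) < n := by
      rw [← hn, Subgroup.card_eq_card_quotient_mul_card_subgroup L]
      exact lt_mul_of_one_lt_right Nat.card_pos
        ((Subgroup.one_lt_card_iff_ne_bot L).2 hL)
    have hnpc := ih _ hlt (G ⧸ L) rfl (S.mapSurjective hsurj)
      (by rwa [Sylow.coe_mapSurjective])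
    obtain ⟨K, hKn, hKp, k, hk⟩ := hasNormalPComplement_iff_exists.1 hnpc
    refine hasNormalPComplement_iff_exists.2 ⟨K.comap (QuotientGroup.mk' L), hKn.comap _, ?_, k, ?_⟩
    · intro hd
      have h1 := Subgroup.relIndex_mul_relIndex ⊥ L (K.comap (QuotientGroup.mk' L)) bot_le
        (fun x hx => by
          rw [Subgroup.mem_comap, show QuotientGroup.mk' L x = 1 from (QuotientGroup.eq_one_iff x).2 hx]
          exact one_mem _)
      rw [Subgroup.relIndex_bot_left, Subgroup.relIndex_bot_left,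
        ← CfsgLib.Coprime.card_map_mk', CfsgLib.Base.map_mk'_comap] at h1
      rw [← h1] at hd
      exact (hpf.out.dvd_mul.1 hd).elim hLp hKp
    · rw [Subgroup.index_comap_of_surjective _ hsurj, hk]
  -- `Q = O_p(G)` is a proper nontrivial subgroup of `S`
  set Q := pCore p G with hQ
  have hQp : IsPGroup p Q := CfsgLib.Base.isPGroup_pCore p G
  have hQS : Q ≤ (S : Subgroup G) := CfsgLib.Base.pCore_le_sylow S
  have hQne : Q ≠ ⊥ := by
    intro h
    have : Nontrivial (S : Subgroup G) := (Subgroup.nontrivial_iff_ne_bot _).2 hSne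
    have hc : Nontrivial (Subgroup.center (S : Subgroup G)) := S.2.center_nontrivial
    obtain ⟨x, hx⟩ := exists_ne (1 : Subgroup.center (S : Subgroup G))
    have hxZ : ((x : (S : Subgroup G)) : G) ∈ Z := ⟨(x : (S : Subgroup G)).2,
      Subgroup.mem_centralizer_iff.2 fun s hs =>
        congrArg Subtype.val (Subgroup.mem_center_iff.1 x.2 ⟨s, hs⟩)⟩
    have hZn : Z.Normal := ⟨fun z hz g => by
      have hg : g * z = z * g := (Subgroup.mem_centralizer_iff.1
        (hCtop.ge (Subgroup.mem_top g)) z hz).symm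
      rwa [hg, mul_inv_cancel_right]⟩
    have hle : Z ≤ Q := CfsgLib.Base.le_pCore (S.2.to_le inf_le_left)
    have h1 := hle hxZ
    rw [h, Subgroup.mem_bot] at h1
    exact hx (Subtype.ext (Subtype.ext h1))
  have hQneS : Q ≠ (S : Subgroup G) := by
    intro h
    refine htop (top_le_iff.1 ?_)
    rw [← Subgroup.normalizer_eq_top (H := Q), h]
    exact normalizer_le_normalizer_jAb _
  -- `G / Q` has a normal `p`-complement
  set f := QuotientGroup.mk' Q with hf
  have hker : f.ker = Q := QuotientGroup.ker_mk' Q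
  have hcomapS : ((S : Subgroup G).map f).comap f = (S : Subgroup G) := by
    rw [CfsgLib.Base.comap_map_mk', sup_eq_left.2 hQS]
  set Jb := jAb ((S : Subgroup G).map f) with hJb
  set M := (Subgroup.normalizer (Jb : Set (G ⧸ Q))).comap f with hM
  have hP : Jb.comap f ≤ (S : Subgroup G) := hcomapS ▸ Subgroup.comap_mono (jAb_le _)
  have hMtop : M ≠ ⊤ := by
    intro h
    have hJbn : Jb.Normal := Subgroup.normalizer_eq_top_iff.1 (by
      rw [← CfsgLib.Base.map_mk'_comap Q (Subgroup.normalizer (Jb : Set (G ⧸ Q))), ← hM, h,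
        Subgroup.map_top_of_surjective _ (QuotientGroup.mk'_surjective Q)])
    have : (Jb.comap f).Normal := hJbn.comap f
    have hle : Jb.comap f ≤ Q := CfsgLib.Base.le_pCore (S.2.to_le hP)
    have hJb1 : Jb = ⊥ := by
      rw [← CfsgLib.Base.map_mk'_comap Q Jb]
      exact CfsgLib.Base.map_mk'_eq_bot_iff.2 hle
    refine jAb_ne_bot (fun h' => hQneS (le_antisymm hQS ?_)) hJb1
    exact CfsgLib.Base.map_mk'_eq_bot_iff.1 h'
  have hSM : (S : Subgroup G) ≤ M := fun s hs =>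
    normalizer_le_normalizer_jAb _ (Subgroup.le_normalizer ⟨s, hs, rfl⟩)
  have hMnpc := hsub M hSM hMtop
  have hqhyp : JHyp p ((S : Subgroup G).map f) := by
    intro x hx hxc
    obtain ⟨g, rfl⟩ := QuotientGroup.mk'_surjective Q x
    obtain ⟨b, hb, hbc, hfb⟩ := exists_lift_coprime f (K := M) hx hxc
    rw [← hfb]
    refine Subgroup.mem_centralizer_iff.2 fun y hy => ?_
    obtain ⟨y, rfl⟩ := QuotientGroup.mk'_surjective Q y
    have hyP : y ∈ Jb.comap f := hy
    have hbP : b * y * b⁻¹ * y⁻¹ ∈ Jb.comap f := by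
      refine mul_mem ?_ (inv_mem hyP)
      rw [Subgroup.mem_comap, map_mul, map_mul, map_inv]
      exact conj_mem_of_mem_normalizer hb hy
    have hyM : y ∈ M := hSM (hP hyP)
    have hd : (⟨b * y * b⁻¹ * y⁻¹, hSM (hP hbP)⟩ : M) ∈ Cfsg.pResidual p M := by
      have hn' := pResidual_normal (G := M) (p := p)
      have hbR : (⟨b, hb⟩ : M) ∈ Cfsg.pResidual p M :=
        mem_pResidual_of_coprime ((Subgroup.orderOf_mk b hb).symm ▸ hbc)
      have := mul_mem hbR (hn'.conj_mem _ (inv_mem hbR) ⟨y, hyM⟩)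
      convert this using 1
      exact Subtype.ext (by simp [mul_assoc])
    have h1 := (mem_pResidual_iff hMnpc).1 hd
    rw [Subgroup.orderOf_mk] at h1
    obtain ⟨k, hk⟩ := (S.2.to_le hP) ⟨_, hbP⟩
    have h2 : b * y * b⁻¹ * y⁻¹ = 1 := by
      rw [← orderOf_eq_one_iff]
      exact Nat.eq_one_of_dvd_coprimes (h1.pow_right k) dvd_rfl
        (orderOf_dvd_of_pow_eq_one (congrArg Subtype.val hk))
    rw [mul_inv_eq_one, mul_inv_eq_iff_eq_mul] at h2
    rw [← map_mul, ← map_mul, h2]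
  have hKnpc : HasNormalPComplement p (G ⧸ Q) := by
    refine ih _ ?_ (G ⧸ Q) rfl (S.mapSurjective (QuotientGroup.mk'_surjective Q))
      (by rwa [Sylow.coe_mapSurjective])
    rw [← hn, Subgroup.card_eq_card_quotient_mul_card_subgroup Q]
    exact lt_mul_of_one_lt_right Nat.card_pos ((Subgroup.one_lt_card_iff_ne_bot Q).2 hQne)
  have hlift : ∀ b : G, (orderOf b).Coprime p → b ∈ Subgroup.centralizer (Q : Set G) → b = 1 :=
    fun b hb hbQ => eq_one_of_centralizes_pCore hL hKnpc hb hbQ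
  -- the chief factor above `Q`
  set Sb := (S : Subgroup G).map f with hSb
  set Kb := Cfsg.pResidual p (G ⧸ Q) with hKb
  have hKbn : Kb.Normal := pResidual_normal
  have hcomp : Kb.IsComplement' Sb := by
    have := isComplement'_pResidual hKnpc (S.mapSurjective (QuotientGroup.mk'_surjective Q))
    rwa [Sylow.coe_mapSurjective] at this
  have hSbp : IsPGroup p Sb := S.2.map f
  have hKbp : ¬ p ∣ Nat.card Kb := hasNormalPComplement_iff_pResidual.1 hKnpc
  have hcop : (Nat.card Sb).Coprime (Nat.card Kb) := by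
    obtain ⟨k, hk⟩ := IsPGroup.iff_card.1 hSbp
    rw [hk]
    exact Nat.Coprime.pow_left k (hpf.out.coprime_iff_not_dvd.2 hKbp)
  have hSbK : Sb ≤ Subgroup.normalizer (Kb : Set (G ⧸ Q)) := by
    rw [Subgroup.normalizer_eq_top (H := Kb)]; exact le_top
  have hKbne : Kb ≠ ⊥ := by
    intro h
    have h1 := hcomp.sup_eq_top
    rw [h, bot_sup_eq] at h1
    have h2 : (S : Subgroup G) = ⊤ := by
      rw [← hcomapS, h1, Subgroup.comap_top]
    have h3 : Q = ⊤ := CfsgLib.Base.pCore_eq_top_iff.2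
      ((S.2.of_equiv ((MulEquiv.subgroupCongr h2).trans Subgroup.topEquiv)))
    exact hQneS (h3.trans h2.symm)
  obtain ⟨q, hq, hqd⟩ := Nat.exists_prime_and_dvd
    (show Nat.card Kb ≠ 1 from fun h => hKbne (Subgroup.card_eq_one.1 h))
  have hqp : q ≠ p := fun h => hKbp (h ▸ hqd)
  have := Fact.mk hq
  have hSbsol : Group.IsSolvable Sb := by
    have : Group.IsNilpotent Sb := hSbp.isNilpotent
    infer_instance
  obtain ⟨T, hT⟩ := CfsgLib.Coprime.exists_invariant_sylow (p := q) hSbK hcop (Or.inl hSbsol)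
  set R0 := (T : Subgroup Kb).map Kb.subtype with hR0
  have hR0q : IsPGroup q R0 := T.2.map _
  have hR0ne : R0 ≠ ⊥ := by
    rw [hR0, ne_eq, Subgroup.map_eq_bot_iff_of_injective _ Kb.subtype_injective]
    exact T.ne_bot_of_dvd_card hqd
  obtain ⟨Rb, hRmin⟩ := (Set.toFinite {R : Subgroup (G ⧸ Q) |
      R ≠ ⊥ ∧ R ≤ R0 ∧ Sb ≤ Subgroup.normalizer (R : Set (G ⧸ Q))}).exists_minimal
    ⟨R0, hR0ne, le_rfl, hT⟩
  obtain ⟨hRne, hRR0, hSR⟩ := hRmin.1
  have hRsmall : ∀ X : Subgroup (G ⧸ Q), X ≤ Rb → Sb ≤ Subgroup.normalizer (X : Set (G ⧸ Q)) →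
      X = ⊥ ∨ X = Rb := fun X hXR hSX => by
    by_contra h
    simp only [not_or] at h
    exact h.2 (le_antisymm hXR (hRmin.2 ⟨h.1, hXR.trans hRR0, hSX⟩ hXR))
  have hRq : IsPGroup q Rb := hR0q.to_le hRR0
  have hRnil : Group.IsNilpotent Rb := hRq.isNilpotent
  have hRc : IsMulCommutative Rb := by
    refine isMulCommutative_of_le_centralizer ?_
    rw [← Subgroup.commutator_eq_bot_iff_le_centralizer]
    refine (hRsmall _ (Subgroup.commutator_le.2 fun x hx y hy => ?_)
      (le_normalizer_commutator_of_le hSR hSR)).resolve_right fun h => hRne ?_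
    · rw [commutatorElement_def]
      exact mul_mem (mul_mem (mul_mem hx hy) (inv_mem hx)) (inv_mem hy)
    · exact eq_bot_of_le_commutator hRnil le_rfl le_rfl h.ge
  have hRexp : ∀ r ∈ Rb, r ^ q = 1 := by
    let X : Subgroup (G ⧸ Q) :=
      { carrier := {r | r ∈ Rb ∧ r ^ q = 1}
        one_mem' := ⟨one_mem _, one_pow q⟩
        mul_mem' := fun {a b} ha hb => ⟨mul_mem ha.1 hb.1, by
          rw [(show Commute a b from CfsgLib.PLocal.comm_of_mem hRc ha.1 hb.1).mul_pow, ha.2, hb.2,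
            one_mul]⟩
        inv_mem' := fun {a} ha => ⟨inv_mem ha.1, by rw [inv_pow, ha.2, inv_one]⟩ }
    have hX := (hRsmall X (fun r hr => hr.1) fun g hg => mem_normalizer_of_conj_mem fun r hr =>
      ⟨conj_mem_of_mem_normalizer (hSR hg) hr.1, by rw [conj_pow, hr.2, mul_one, mul_inv_cancel]⟩)
      |>.resolve_left fun h => by
        have : Nontrivial Rb := (Subgroup.nontrivial_iff_ne_bot _).2 hRne
        obtain ⟨k, hk⟩ := IsPGroup.iff_card.1 hRq
        obtain ⟨y, hy⟩ := exists_prime_orderOf_dvd_card' (G := Rb) q (hk ▸ dvd_pow_self q fun h0 => by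
          rw [h0, pow_zero] at hk
          exact (Finite.one_lt_card (α := Rb)).ne' hk)
        have hy' : (y : G ⧸ Q) ∈ X := ⟨y.2, by
          rw [← Subgroup.coe_pow, ← hy, pow_orderOf_eq_one, Subgroup.coe_one]⟩
        rw [h, Subgroup.mem_bot] at hy'
        rw [show y = 1 from Subtype.ext hy', orderOf_one] at hy
        exact hq.ne_one hy.symm
    exact fun r hr => (hX.ge hr).2
  have hRK : Rb ≤ Kb := hRR0.trans (Subgroup.map_subtype_le _)
  -- `Rb` is the whole complement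
  have hH : Rb ⊔ Sb = ⊤ := by
    by_contra hne
    set H := (Rb ⊔ Sb).comap f with hHdef
    have hHne : H ≠ ⊤ := fun h => hne (by
      rw [← CfsgLib.Base.map_mk'_comap Q (Rb ⊔ Sb), ← hHdef, h,
        Subgroup.map_top_of_surjective _ (QuotientGroup.mk'_surjective Q)])
    have hSH : (S : Subgroup G) ≤ H := hcomapS.ge.trans (Subgroup.comap_mono le_sup_right)
    have hHnpc := hsub H hSH hHne
    refine hRne ((Subgroup.eq_bot_iff_forall _).2 fun r hr => ?_)
    obtain ⟨g, rfl⟩ := QuotientGroup.mk'_surjective Q r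
    have hgH : g ∈ H := Subgroup.mem_sup_left (S := Rb) (T := Sb) hr
    obtain ⟨b, hb, hbc, hfb⟩ := exists_lift_coprime (p := p) f hgH (by
      have h1 : (orderOf (QuotientGroup.mk' Q g)) ∣ q := orderOf_dvd_of_pow_eq_one (hRexp _ hr)
      exact Nat.Coprime.coprime_dvd_left h1 ((Nat.coprime_primes hq hpf.out).2 hqp))
    rw [← hfb, hlift b hbc (Subgroup.mem_centralizer_iff.2 fun y hy => ?_), map_one]
    have hn' := pResidual_normal (G := H) (p := p)
    have hbR : (⟨b, hb⟩ : H) ∈ Cfsg.pResidual p H :=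
      mem_pResidual_of_coprime ((Subgroup.orderOf_mk b hb).symm ▸ hbc)
    have hbQ : b * y * b⁻¹ * y⁻¹ ∈ Q :=
      mul_mem ((inferInstance : Q.Normal).conj_mem y hy b) (inv_mem hy)
    have hd : (⟨b * y * b⁻¹ * y⁻¹, hSH (hQS hbQ)⟩ : H) ∈ Cfsg.pResidual p H := by
      have := mul_mem hbR (hn'.conj_mem _ (inv_mem hbR) ⟨y, hSH (hQS hy)⟩)
      convert this using 1
      exact Subtype.ext (by simp [mul_assoc])
    have h1 := (mem_pResidual_iff hHnpc).1 hd
    rw [Subgroup.orderOf_mk] at h1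
    obtain ⟨k, hk⟩ := hQp ⟨_, hbQ⟩
    have h2 : b * y * b⁻¹ * y⁻¹ = 1 := by
      rw [← orderOf_eq_one_iff]
      exact Nat.eq_one_of_dvd_coprimes (h1.pow_right k) dvd_rfl
        (orderOf_dvd_of_pow_eq_one (congrArg Subtype.val hk))
    rw [mul_inv_eq_one, mul_inv_eq_iff_eq_mul] at h2
    exact h2.symm
  have hRKeq : Rb = Kb := by
    refine Subgroup.eq_of_le_of_card_ge hRK ?_
    have h1 := CfsgLib.Coprime.card_sup_mul_card_inf (H := Sb) (N := Rb) hSR
    rw [sup_comm, hH, Subgroup.card_top, ← hcomp.card_mul, mul_comm (Nat.card Sb)] at h1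
    have h2 : Nat.card Kb * Nat.card Sb ≤ Nat.card Rb * Nat.card Sb := by
      rw [← h1]
      exact Nat.le_mul_of_pos_right _ Nat.card_pos
    exact Nat.le_of_mul_le_mul_right h2 Nat.card_pos
  have hRn : Rb.Normal := hRKeq ▸ hKbn
  -- `Sb` is faithful on `Rb`
  have hfaith : ∀ x ∈ (S : Subgroup G), f x ∈ Subgroup.centralizer (Rb : Set (G ⧸ Q)) → x ∈ Q := by
    set T0 := Sb ⊓ Subgroup.centralizer (Rb : Set (G ⧸ Q)) with hT0
    have hT0n : T0.Normal := by
      refine Subgroup.normalizer_eq_top_iff.1 (top_le_iff.1 ?_)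
      rw [← hH]
      refine sup_le ?_ (CfsgLib.Coprime.le_normalizer_inf_inf Subgroup.le_normalizer
        (CfsgLib.Coprime.le_normalizer_centralizer hSR))
      exact (Subgroup.le_centralizer_iff.1 (inf_le_right : T0 ≤ _)).trans
        (Subgroup.centralizer_le_normalizer _)
    have : (T0.comap f).Normal := hT0n.comap f
    have hle : T0.comap f ≤ Q := CfsgLib.Base.le_pCore
      (S.2.to_le ((Subgroup.comap_mono inf_le_left).trans hcomapS.le))
    exact fun x hx hxc => hle ⟨⟨x, hx, rfl⟩, hxc⟩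
  -- an abelian subgroup of largest order outside `Q`
  obtain ⟨A, hA, hAQ⟩ : ∃ A ∈ maxAb (S : Subgroup G), ¬ A ≤ Q := by
    by_contra h
    simp only [not_exists, not_and, not_not] at h
    obtain ⟨A, hA⟩ := maxAb_nonempty (S : Subgroup G)
    have heq : jAb Q = J := by
      refine le_antisymm (sSup_le fun B hB =>
        le_jAb ((mem_maxAb_iff_of_le hQS hA (h A hA)).1 hB).1) (sSup_le fun B hB => ?_)
      exact le_jAb ((mem_maxAb_iff_of_le hQS hA (h A hA)).2 ⟨hB, h B hB⟩)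
    refine htop (top_le_iff.1 ?_)
    rw [← heq, ← Subgroup.normalizer_eq_top (H := Q)]
    exact normalizer_le_normalizer_jAb _
  exact (false_of_configuration hp hq hqp S.2 hQS hA hRn hRc hRexp
    (fun x hx hxc => hfaith x ((mem_maxAb.1 hA).1 hx) hxc) hAQ hlift).elim

theorem hasNormalPComplement_of_jHyp {p : ℕ} [Fact p.Prime] (hp : 5 ≤ p) {G : Type u} [Group G]
    [Finite G] (S : Sylow p G) (h : JHyp p (S : Subgroup G)) : HasNormalPComplement p G :=
  hasNormalPComplement_of_jHyp_aux hp _ G rfl S h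

end CfsgLib.LocalEven.JNormComplement
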