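import Cfsg.Agent.Lib.LocalEven.WeakClosure
import Cfsg.Agent.Lib.LocalEven.JAbel
import Cfsg.Agent.Lib.Base.Cores
import Cfsg.Agent.Lib.Coprime.Action
import Cfsg.Agent.Lib.LocalEven.JNormComplement.Tools

/-!
# Reductions for the `N(J(S))/C(J(S))` criterion for a normal `p`-complement
-/

set_option autoImplicit false
set_option linter.style.haveILetI false
set_option linter.unusedSectionVars false

namespace CfsgLib.LocalEven.JNormComplement

open Cfsg CfsgLib.Transfer
open scoped commutatorElement Pointwise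

variable {G : Type*} [Group G] [Finite G] {p : ℕ} [hpf : Fact p.Prime]

/-- Every `p'`-element of the normaliser of `J(S)` centralises `J(S)`. -/
def JHyp (p : ℕ) (S : Subgroup G) : Prop :=
  ∀ g ∈ Subgroup.normalizer (jAb S : Set G), (orderOf g).Coprime p →
    g ∈ Subgroup.centralizer (jAb S : Set G)

/-- An element of order prime to `p` in the image of a subgroup is the image of such an element. -/
theorem exists_lift_coprime {H : Type*} [Group H] (f : G →* H) {K : Subgroup G} {n : G}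
    (hn : n ∈ K) (hx : (orderOf (f n)).Coprime p) :
    ∃ b ∈ K, (orderOf b).Coprime p ∧ f b = f n := by
  obtain ⟨a, ha, b, hb, hab, ⟨k, hk⟩, hbc⟩ := exists_pPart_mul (p := p) n
  refine ⟨b, (Subgroup.zpowers_le.2 hn) hb, hbc, ?_⟩
  obtain ⟨i, hi⟩ := Subgroup.mem_zpowers_iff.1 ha
  have h1 : orderOf (f a) ∣ orderOf (f n) := by
    rw [← hi, map_zpow, orderOf_dvd_iff_pow_eq_one, ← zpow_natCast, ← zpow_mul, mul_comm,
      zpow_mul, zpow_natCast, pow_orderOf_eq_one, one_zpow]
  have h2 : orderOf (f a) ∣ p ^ k := (orderOf_map_dvd f a).trans hk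
  have h3 : f a = 1 := by
    rw [← orderOf_eq_one_iff]
    exact Nat.eq_one_of_dvd_coprimes (hx.pow_right k) h1 h2
  rw [← hab, map_mul, h3, one_mul]

theorem map_jAb_of_inf_ker {H : Type*} [Group H] (f : G →* H) (R : Subgroup G)
    (h : f.ker ⊓ R = ⊥) : (jAb R).map f = jAb (R.map f) := by
  have hinj : ∀ x ∈ R, ∀ y ∈ R, f x = f y → x = y := fun x hx y hy hxy => by
    have : x⁻¹ * y ∈ f.ker ⊓ R := Subgroup.mem_inf.2
      ⟨by rw [MonoidHom.mem_ker, map_mul, map_inv, hxy, inv_mul_cancel],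
        mul_mem (inv_mem hx) hy⟩
    rw [h, Subgroup.mem_bot, inv_mul_eq_one] at this
    exact this
  have hcard : ∀ A ≤ R, Nat.card (A.map f) = Nat.card A := fun A hA => by
    refine (Nat.card_congr (Equiv.ofBijective (fun x : A => (⟨f x, x, x.2, rfl⟩ : A.map f))
      ⟨fun x y hxy => Subtype.ext (hinj _ (hA x.2) _ (hA y.2) (congrArg Subtype.val hxy)),
        fun ⟨_, x, hx, e⟩ => ⟨⟨x, hx⟩, Subtype.ext e⟩⟩)).symm
  have hcomm : ∀ A ≤ R, IsMulCommutative (A.map f) ↔ IsMulCommutative A := fun A hA => by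
    constructor
    · intro hc
      refine ⟨⟨fun x y => Subtype.ext (hinj _ (hA (mul_mem x.2 y.2)) _ (hA (mul_mem y.2 x.2)) ?_)⟩⟩
      simp only [Subgroup.coe_mul, map_mul]
      exact CfsgLib.PLocal.comm_of_mem hc ⟨x, x.2, rfl⟩ ⟨y, y.2, rfl⟩
    · intro hc
      refine ⟨⟨fun x y => Subtype.ext ?_⟩⟩
      obtain ⟨_, x, hx, rfl⟩ := x
      obtain ⟨_, y, hy, rfl⟩ := y
      change f x * f y = f y * f x
      rw [← map_mul, ← map_mul, CfsgLib.PLocal.comm_of_mem hc hx hy]
  have hback : ∀ B ≤ R.map f, B = (B.comap f ⊓ R).map f := fun B hB => by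
    refine le_antisymm (fun y hy => ?_) ?_
    · obtain ⟨x, hx, rfl⟩ := hB hy
      exact ⟨x, ⟨hy, hx⟩, rfl⟩
    · exact (Subgroup.map_mono inf_le_left).trans (Subgroup.map_comap_le f B)
  have hmax : ∀ A ∈ maxAb R, A.map f ∈ maxAb (R.map f) := fun A hA => by
    obtain ⟨hAR, hc, hm⟩ := mem_maxAb.1 hA
    refine mem_maxAb.2 ⟨Subgroup.map_mono hAR, (hcomm A hAR).2 hc, fun B hB hBc => ?_⟩
    rw [hback B hB] at hBc ⊢
    rw [hcard _ inf_le_right, hcard A hAR]
    exact hm _ inf_le_right ((hcomm _ inf_le_right).1 hBc)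
  refine le_antisymm (Subgroup.map_le_iff_le_comap.2 (sSup_le fun A hA =>
    Subgroup.map_le_iff_le_comap.1 (le_jAb (hmax A hA)))) (sSup_le fun B hB => ?_)
  obtain ⟨hBR, hBc, hBm⟩ := mem_maxAb.1 hB
  rw [hback B hBR]
  refine Subgroup.map_mono (le_jAb (mem_maxAb.2 ⟨inf_le_right,
    (hcomm _ inf_le_right).1 (hback B hBR ▸ hBc), fun C hC hCc => ?_⟩))
  rw [← hcard _ inf_le_right, ← hback B hBR, ← hcard C hC]
  exact hBm _ (Subgroup.map_mono hC) ((hcomm C hC).2 hCc)

theorem jAb_ne_bot {R : Subgroup G} (hR : R ≠ ⊥) : jAb R ≠ ⊥ := by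
  intro h
  obtain ⟨x, hx, hx1⟩ := (Subgroup.bot_or_exists_ne_one R).resolve_left hR
  obtain ⟨A, hA⟩ := maxAb_nonempty R
  have hA1 : Nat.card A = 1 := Subgroup.card_eq_one.2 (le_bot_iff.1 (h ▸ le_jAb hA))
  have := (mem_maxAb.1 hA).2.2 (Subgroup.zpowers x) (Subgroup.zpowers_le.2 hx) inferInstance
  rw [hA1] at this
  exact hx1 (Subgroup.zpowers_eq_bot.1
    (Subgroup.card_eq_one.1 (le_antisymm this Nat.card_pos)))

/-- The case of a normal `J(S)`. -/
theorem hasNormalPComplement_of_normalizer_eq_top (S : Sylow p G) (h : JHyp p (S : Subgroup G))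
    (htop : Subgroup.normalizer (jAb (S : Subgroup G) : Set G) = ⊤) :
    HasNormalPComplement p G := by
  set J := jAb (S : Subgroup G)
  set C := Subgroup.centralizer (J : Set G) with hC
  have hJn : J.Normal := Subgroup.normalizer_eq_top_iff.1 htop
  have hCn : C.Normal := inferInstance
  have hSC : ∀ x ∈ (S : Subgroup G), x ∈ C → x ∈ J := by
    intro x hx hxC
    obtain ⟨A, hA⟩ := maxAb_nonempty (S : Subgroup G)
    obtain ⟨hAS, hAc, hm⟩ := mem_maxAb.1 hA
    have hab : IsMulCommutative ↥(Subgroup.zpowers x ⊔ A) :=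
      isMulCommutative_sup inferInstance hAc
        (Subgroup.zpowers_le.2 (Subgroup.centralizer_le (le_jAb hA) hxC))
    have heq := Subgroup.eq_of_le_of_card_ge (le_sup_right : A ≤ Subgroup.zpowers x ⊔ A)
      (hm _ (sup_le (Subgroup.zpowers_le.2 hx) hAS) hab)
    exact le_jAb hA (heq ▸ Subgroup.mem_sup_left (Subgroup.mem_zpowers x))
  have hndvd := not_dvd_index_subgroupOf_of_normal S C
  obtain ⟨T⟩ : Nonempty (Sylow p C) := inferInstance
  set T₀ : Subgroup C := (S : Subgroup G).subgroupOf C with hT₀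
  have hT₀p : IsPGroup p T₀ := S.2.comap_of_injective _ C.subtype_injective
  set T' : Sylow p C := hT₀p.toSylow hndvd with hT'
  have hTC : (T' : Subgroup C) ≤ Subgroup.center C := by
    intro x hx
    rw [hT', IsPGroup.toSylow_coe] at hx
    refine Subgroup.mem_center_iff.2 fun g => Subtype.ext ?_
    exact (g.2 (x : G) (hSC _ hx x.2)).symm
  have hCnpc : HasNormalPComplement p C :=
    hasNormalPComplement_of_normalizer_le_centralizer T' fun g _ =>
      Subgroup.mem_centralizer_iff.2 fun x hx => (Subgroup.mem_center_iff.1 (hTC hx) g).symm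
  have hle : Cfsg.pResidual p G ≤ (Cfsg.pResidual p C).map C.subtype := by
    rw [Cfsg.pResidual, Subgroup.closure_le]
    intro g hg
    have hgC : g ∈ C := h g (htop ▸ Subgroup.mem_top g) hg
    refine ⟨⟨g, hgC⟩, mem_pResidual_of_coprime ?_, rfl⟩
    exact (Subgroup.orderOf_mk g hgC).symm ▸ hg
  refine hasNormalPComplement_iff_pResidual.2 fun hd => ?_
  refine hasNormalPComplement_iff_pResidual.1 hCnpc ?_
  have := hd.trans (Subgroup.card_dvd_of_le hle)
  rwa [Subgroup.card_map_of_injective C.subtype_injective] at this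

/-- The hypothesis is inherited by subgroups containing `S`. -/
theorem jHyp_subtype (S : Sylow p G) (h : JHyp p (S : Subgroup G)) {H : Subgroup G}
    (hSH : (S : Subgroup G) ≤ H) : JHyp p ((S.subtype hSH : Sylow p H) : Subgroup H) := by
  intro g hg hgc
  have hmap : (jAb ((S.subtype hSH : Sylow p H) : Subgroup H)).map H.subtype =
      jAb (S : Subgroup G) := by
    rw [map_subtype_jAb, Sylow.coe_subtype, Subgroup.map_subgroupOf_eq_of_le hSH]
  have hgN : (g : G) ∈ Subgroup.normalizer (jAb (S : Subgroup G) : Set G) := by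
    rw [← hmap]
    exact Subgroup.le_normalizer_map H.subtype ⟨g, hg, rfl⟩
  have hgC := h g hgN (by rwa [Subgroup.orderOf_coe])
  exact Subgroup.mem_centralizer_iff.2 fun x hx => Subtype.ext
    (Subgroup.mem_centralizer_iff.1 hgC x (hmap ▸ ⟨x, hx, rfl⟩))

/-- The hypothesis passes to the quotient by a normal `p'`-subgroup. -/
theorem jHyp_quotient_pPrime (S : Sylow p G) (h : JHyp p (S : Subgroup G)) (L : Subgroup G)
    [L.Normal] (hL : ¬ p ∣ Nat.card L) :
    JHyp p ((S : Subgroup G).map (QuotientGroup.mk' L)) := by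
  set f := QuotientGroup.mk' L
  set J := jAb (S : Subgroup G)
  have hJp : IsPGroup p J := S.2.to_le (jAb_le _)
  have hinf : ∀ R : Subgroup G, IsPGroup p R → f.ker ⊓ R = ⊥ := fun R hR => by
    rw [QuotientGroup.ker_mk']
    obtain ⟨n, hn⟩ := IsPGroup.iff_card.1 hR
    exact CfsgLib.Coprime.inf_eq_bot_of_coprime
      (hn.symm ▸ ((hpf.out.coprime_iff_not_dvd.2 hL).symm).pow_right n)
  have hmap : jAb ((S : Subgroup G).map f) = J.map f :=
    (map_jAb_of_inf_ker f _ (hinf _ S.2)).symm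
  rw [JHyp, hmap]
  intro x hx hxc
  obtain ⟨g, rfl⟩ := QuotientGroup.mk'_surjective L x
  have hJM : J ≤ J ⊔ L := le_sup_left
  have hgM : g ∈ Subgroup.normalizer ((J ⊔ L : Subgroup G) : Set G) := by
    rw [← CfsgLib.Base.comap_map_mk']
    exact Subgroup.le_normalizer_comap f hx
  have hJ₀ : IsPGroup p (J.subgroupOf (J ⊔ L)) :=
    hJp.comap_of_injective _ (J ⊔ L).subtype_injective
  have hidx : ¬ p ∣ (J.subgroupOf (J ⊔ L)).index := by
    intro hd
    have h1 : J.relIndex (J ⊔ L) * Nat.card J = Nat.card ↥(J ⊔ L) := by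
      rw [mul_comm, ← Subgroup.relIndex_bot_left, ← Subgroup.relIndex_bot_left]
      exact Subgroup.relIndex_mul_relIndex ⊥ J (J ⊔ L) bot_le hJM
    have h2 := CfsgLib.Coprime.card_sup_of_inf_eq_bot (H := J) (N := L)
      (by rw [Subgroup.normalizer_eq_top (H := L)]; exact le_top)
      (by rw [inf_comm]; simpa [f] using hinf J hJp)
    rw [h2, mul_comm (Nat.card J)] at h1
    exact hL (Nat.eq_of_mul_eq_mul_right Nat.card_pos h1 ▸ hd)
  have hgJ : MulAut.conj g • J ≤ J ⊔ L := by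
    rw [CfsgLib.Coprime.conj_smul_le_iff]
    exact fun y hy => (Subgroup.mem_normalizer_iff.1 hgM y).1 (hJM hy)
  set P : Sylow p ↥(J ⊔ L) := hJ₀.toSylow hidx with hP
  have hP' : IsPGroup p ((MulAut.conj g • J).subgroupOf (J ⊔ L)) := by
    refine IsPGroup.comap_of_injective ?_ _ (J ⊔ L).subtype_injective
    rw [CfsgLib.Coprime.conj_smul_eq_map]
    exact hJp.map _
  obtain ⟨P', hP'le⟩ := hP'.exists_le_sylow
  obtain ⟨l, hl⟩ := MulAction.exists_smul_eq ↥(J ⊔ L) P' P
  have hn : (l : G) * g ∈ Subgroup.normalizer (J : Set G) := by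
    refine mem_normalizer_of_conj_mem fun y hy => ?_
    have h1 : (⟨g * y * g⁻¹, (Subgroup.mem_normalizer_iff.1 hgM y).1 (hJM hy)⟩ : ↥(J ⊔ L)) ∈
        (P' : Subgroup ↥(J ⊔ L)) := by
      refine hP'le ?_
      rw [Subgroup.mem_subgroupOf]
      exact (CfsgLib.Coprime.mem_conj_smul).2 (by simpa [mul_assoc] using hy)
    have h2 := Subgroup.smul_mem_pointwise_smul _ (MulAut.conj l) _ h1
    have h3 : MulAut.conj l • (P' : Subgroup ↥(J ⊔ L)) = (P : Subgroup ↥(J ⊔ L)) :=
      congrArg Sylow.toSubgroup hl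
    rw [h3, hP, IsPGroup.toSylow_coe, Subgroup.mem_subgroupOf] at h2
    simpa [MulAut.conj_apply, mul_assoc] using h2
  obtain ⟨j, hj, m, hm, hjm⟩ := Subgroup.mem_sup_of_normal_right.1 l.2
  set n := j⁻¹ * ((l : G) * g) with hn'
  have hnN : n ∈ Subgroup.normalizer (J : Set G) :=
    mul_mem (inv_mem (Subgroup.le_normalizer hj)) hn
  have hfn : f n = f g := by
    rw [hn', ← hjm, show j⁻¹ * (j * m * g) = m * g by group, map_mul,
      show f m = 1 from (QuotientGroup.eq_one_iff m).2 hm, one_mul]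
  rw [← hfn] at hxc ⊢
  obtain ⟨b, hb, hbc, hfb⟩ := exists_lift_coprime f hnN hxc
  rw [← hfb]
  exact Subgroup.map_centralizer_le_centralizer_image _ f ⟨b, h b hb hbc, rfl⟩

/-- In a group with trivial `O_{p'}` whose quotient by `O_p` has a normal `p`-complement, no
nontrivial `p'`-element centralises `O_p`. -/
theorem eq_one_of_centralizes_pCore (hL : pPrimeCore p G = ⊥)
    (hK : HasNormalPComplement p (G ⧸ pCore p G)) {b : G} (hb : (orderOf b).Coprime p)
    (hbQ : b ∈ Subgroup.centralizer (pCore p G : Set G)) : b = 1 := by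
  set Q := pCore p G
  set f := QuotientGroup.mk' Q
  set K1 := (Cfsg.pResidual p (G ⧸ Q)).comap f ⊓ Subgroup.centralizer (Q : Set G) with hK1
  have : (Cfsg.pResidual p (G ⧸ Q)).Normal := pResidual_normal
  have hK1n : K1.Normal := inferInstance
  have hbK : b ∈ K1 := ⟨mem_pResidual_of_coprime
    (Nat.Coprime.coprime_dvd_left (orderOf_map_dvd f b) hb), hbQ⟩
  obtain ⟨T⟩ : Nonempty (Sylow p K1) := inferInstance
  have hTQ : ∀ x : K1, x ∈ (T : Subgroup K1) → (x : G) ∈ Q := by
    intro x hx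
    obtain ⟨k, hk⟩ := T.2 ⟨x, hx⟩
    have h1 : f (x : G) ^ p ^ k = 1 := by
      rw [← map_pow, ← Subgroup.coe_pow]
      have := congrArg (fun y : (T : Subgroup K1) => f ((y : K1) : G)) hk
      simpa using this
    have h2 := (mem_pResidual_iff hK).1 (x.2.1 : f (x : G) ∈ Cfsg.pResidual p (G ⧸ Q))
    have h3 : f (x : G) = 1 := by
      rw [← orderOf_eq_one_iff]
      exact Nat.eq_one_of_dvd_coprimes (h2.pow_right k) dvd_rfl (orderOf_dvd_of_pow_eq_one h1)
    exact (QuotientGroup.eq_one_iff _).1 h3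
  have hnpc : HasNormalPComplement p K1 :=
    hasNormalPComplement_of_normalizer_le_centralizer T fun g _ =>
      Subgroup.mem_centralizer_iff.2 fun x hx => Subtype.ext (g.2.2 x (hTQ x hx))
  have hchar := pResidual_characteristic (G := K1) (p := p)
  have hle : (Cfsg.pResidual p K1).map K1.subtype ≤ pPrimeCore p G := by
    refine CfsgLib.Base.le_pPrimeCore_of_not_dvd ?_
    rw [Subgroup.card_map_of_injective K1.subtype_injective]
    exact hasNormalPComplement_iff_pResidual.1 hnpc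
  have hb' : b ∈ pPrimeCore p G := hle ⟨⟨b, hbK⟩,
    mem_pResidual_of_coprime ((Subgroup.orderOf_mk b hbK).symm ▸ hb), rfl⟩
  rwa [hL, Subgroup.mem_bot] at hb'

end CfsgLib.LocalEven.JNormComplement
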